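import Cfsg.Agent.AL.A
import Cfsg.Agent.H8.ES32

/-! Clifford generators of `2^(1+4)_-`. -/

set_option autoImplicit false
set_option linter.unusedVariables false
set_option linter.unusedSectionVars false

namespace AL

open Cfsg Subgroup FT GW H7 Equiv
open H8 (ESI)

variable {G : Type*} [Group G] [Finite G] {Q : Subgroup G} {z x y : G} {g : ℕ → G}

/-- a subgroup of a finite group from closure under products -/
def sbM (p : G → Prop) (h1 : p 1) (hm : ∀ a b, p a → p b → p (a * b)) : Subgroup G where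
  carrier := {a | p a}
  one_mem' := h1
  mul_mem' := hm _ _
  inv_mem' := fun {a} ha => by
    have : ∀ n : ℕ, p (a ^ n) := fun n => by
      induction n with
      | zero => rwa [pow_zero]
      | succ n ih => rw [pow_succ]; exact hm _ _ ih ha
    have e : a⁻¹ = a ^ (orderOf a - 1) := inv_eq_of_mul_eq_one_left (by
      rw [← pow_succ, Nat.sub_add_cancel (orderOf_pos a), pow_orderOf_eq_one])
    exact e ▸ this _

structure St (Q : Subgroup G) (z : G) : Prop where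
  es : ES Q z
  card : Nat.card Q = 32
  n8 : ∀ x y, ESI Q z x → ESI Q z y → x * y = y * x → y = x ∨ y = z * x
  nor : Cen1 z ≤ Nor Q
  cen : ∀ h ∈ Cen1 z, (∀ q ∈ Q, q * h = h * q) → h ∈ Q
  quo : ∃ ρ : Cen1 z →* Perm (Fin 4), Function.Surjective ρ ∧ ∀ h, ρ h = 1 ↔ (h : G) ∈ Q

/-- equality up to sign -/
def Pr (z x y : G) : Prop := x = y ∨ x = z * y

theorem Pr.symm (zz : z * z = 1) (h : Pr z x y) : Pr z y x :=
  h.imp Eq.symm fun e => by rw [e, ← mul_assoc, zz, one_mul]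

theorem Pr.trans (zz : z * z = 1) {w : G} (h : Pr z x y) (h' : Pr z y w) : Pr z x w := by
  rcases h with rfl | rfl
  · exact h'
  · rcases h' with rfl | rfl
    · exact Or.inr rfl
    · exact Or.inl (by rw [← mul_assoc, zz, one_mul])

theorem Pr.conj {h : G} (hh : h ∈ Cen1 z) (e : Pr z x y) : Pr z (h * x * h⁻¹) (h * y * h⁻¹) :=
  e.imp (fun e => by rw [e]) fun e => by rw [e, ← conj_mul, c1'.1 hh]

theorem act {n : ℕ} (zz : z * z = 1) {f : Fin n → G} (ne : ∀ i j, Pr z (f i) (f j) → i = j)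
    (hc : ∀ h ∈ Cen1 z, ∀ i, ∃ j, Pr z (h * f i * h⁻¹) (f j)) :
    ∃ σ : Cen1 z →* Perm (Fin n), ∀ (h : Cen1 z) i, Pr z (h * f i * (h : G)⁻¹) (f (σ h i)) := by
  choose π hπ using fun (h : Cen1 z) => hc h h.2
  let _ : MulAction (Cen1 z) (Fin n) :=
    { smul := π
      one_smul := fun i => (ne i (π 1 i) (by simpa using hπ 1 i)).symm
      mul_smul := fun a b i => ne (π _ i) (π a (π b i)) (((hπ (a * b) i).symm zz).trans zz (by
        have := ((hπ b i).conj a.2).trans zz (hπ a _)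
        simpa only [coe_mul, mul_inv_rev, mul_assoc] using this)) }
  exact ⟨MulAction.toPermHom _ _, hπ⟩

structure Cl (Q : Subgroup G) (z : G) (g : ℕ → G) : Prop where
  z0 : g 0 = z
  i : ∀ i : Fin 4, ESI Q z (g (i + 1))
  ne : ∀ i j : Fin 4, Pr z (g (i + 1)) (g (j + 1)) → i = j

def Ev (g : ℕ → G) (e : ℕ) : G := ev g (nfE e)

theorem St.anti (h : St Q z) (hx : ESI Q z x) (hy : ESI Q z y) (n : ¬ Pr z y x) :
    x * y = z * (y * x) := by
  rw [← mul_assoc, ← h.es.conj_eq hx.1 hy.1 fun e => n (h.n8 x y hx hy e), inv_mul_cancel_right]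

theorem Ev0 : Ev g 0 = 1 := rfl

namespace Cl

variable (h : St Q z) (c : Cl Q z g)
include h c

theorem anti {i j : Fin 4} (n : j ≠ i) : g (i + 1) * g (j + 1) = z * (g (j + 1) * g (i + 1)) :=
  h.anti (c.i i) (c.i j) fun e => n (c.ne j i e)

theorem rE : ∀ r ∈ rE, g r.1 * g r.2.1 = ev g r.2.2 := by
  simp only [AL.rE, List.forall_mem_cons, List.not_mem_nil, false_imp_iff, implies_true, and_true,
    ev_cons, ev_nil, mul_one, c.z0]
  have z1 := fun i => h.es.cent _ (c.i i).1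
  have s1 := fun i => (c.i i).2.1
  exact ⟨h.es.sq_z, z1 0, s1 0, z1 1, c.anti h (i := 1) (j := 0) (by decide), s1 1, z1 2,
    c.anti h (i := 2) (j := 0) (by decide), c.anti h (i := 2) (j := 1) (by decide), s1 2, z1 3,
    c.anti h (i := 3) (j := 0) (by decide), c.anti h (i := 3) (j := 1) (by decide),
    c.anti h (i := 3) (j := 2) (by decide), s1 3⟩

theorem mul {a b : ℕ} (ha : a < 32) (hb : b < 32) : Ev g (mE a b) = Ev g a * Ev g b := by
  rw [Ev, ← (tA a ha b hb).2, ev_col (c.rE h), ev_append]; rfl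

theorem e1 : Ev g 1 = z := (mul_one _).trans c.z0

theorem ef (i : Fin 4) : Ev g (cf i) = g (i + 1) ∧ Ev g (cf i + 1) = z * g (i + 1) := by
  obtain ⟨a, b⟩ := (by decide : ∀ i : Fin 4, nfE (cf i) = [i.val + 1] ∧
    nfE (cf i + 1) = [0, i.val + 1]) i
  simp only [Ev, a, b, ev_cons, ev_nil, mul_one, c.z0, and_self]

theorem mem {F : Subgroup G} (h1 : z ∈ F) (h2 : ∀ i : Fin 4, g (i + 1) ∈ F) {e : ℕ} (he : e < 32) :
    Ev g e ∈ F := by
  refine list_prod_mem fun x hx => ?_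
  obtain ⟨a, ha, rfl⟩ := List.mem_map.1 hx
  rcases (by decide +kernel : ∀ e < 32, ∀ a ∈ nfE e, a = 0 ∨ ∃ i : Fin 4, a = i + 1) e he a ha with
    rfl | ⟨i, rfl⟩
  · exact c.z0 ▸ h1
  · exact h2 i

theorem memQ {e : ℕ} (he : e < 32) : Ev g e ∈ Q := c.mem h h.es.mem (fun i => (c.i i).1) he

theorem cen0 (hx : x ∈ Q) (e : ∀ i : Fin 4, g (i + 1) * x = x * g (i + 1)) : x = 1 ∨ x = z := by
  have zz := h.es.sq_z
  have key : ∀ y ∈ Q, y * y = 1 → g 3 * y = y * g 3 → g 4 * y = y * g 4 → y = 1 ∨ y = z :=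
    fun y hy y2 e3 e4 => by
    by_contra hn
    rw [not_or] at hn
    exact absurd (c.ne 2 3 ((Pr.symm zz (h.n8 _ y (c.i 2) ⟨hy, y2, hn⟩ e3)).trans zz
      (h.n8 _ y (c.i 3) ⟨hy, y2, hn⟩ e4))) (by decide)
  rcases h.es.sq x hx with e2 | e2
  · exact key x hx e2 (e 2) (e 3)
  have ce : ∀ a < 32, Ev g a * x = x * Ev g a := fun a ha =>
    c1.1 (c.mem h (F := Cen1 x) (c1.2 (h.es.cent x hx).symm) (fun i => c1.2 (e i)) ha)
  have k : ∀ i : Fin 4, mE (cf i) 6 = mE 6 (cf i) →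
      g (i + 1) * (x * Ev g 6) = x * Ev g 6 * g (i + 1) := fun i e' => by
    have l : cf i < 32 := by revert i; decide
    rw [← mul_assoc, e, mul_assoc, mul_assoc, ← (c.ef h i).1, ← c.mul h l (by norm_num),
      ← c.mul h (by norm_num) l, e']
  have x6 := (ce 6 (by norm_num)).symm
  have n : ∀ y, y * Ev g 2 = Ev g 2 * y → x * Ev g 6 ≠ y := fun y hy e' => by
    rw [← e', mul_assoc, ← mul_assoc (Ev g 2), ce 2 (by norm_num), mul_assoc, mul_right_inj,
      ← c.mul h (by decide) (by decide), ← c.mul h (by decide) (by decide),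
      show mE 6 2 = mE 1 (mE 2 6) by decide, c.mul h (by decide) (by decide), c.e1 h] at hy
    exact h.es.ne (by simpa using hy)
  rcases key _ (mul_mem hx (c.memQ h (e := 6) (by norm_num))) (by
    rw [H8.sq_mul_comm x6, e2, ← c.mul h (by norm_num) (by norm_num),
      show mE 6 6 = 1 by decide, c.e1 h, zz]) (k 2 (by decide)) (k 3 (by decide)) with e' | e'
  · exact absurd e' (n 1 (by simp))
  · exact absurd e' (n z (h.es.cent _ (c.memQ h (by norm_num))).symm)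

theorem gen {F : Subgroup G} (h1 : z ∈ F) (h2 : ∀ i : Fin 4, g (i + 1) ∈ F) : Q ≤ F := fun y hy => by
  by_contra hn
  obtain ⟨x, hx, e1, e2⟩ := h.es.exists_not_commute h1 hy hn
  rcases c.cen0 h hx fun i => e1 _ (h2 i) (c.i i).1 with rfl | rfl
  · exact e2 (by simp)
  · exact e2 (h.es.cent y hy).symm

theorem cenH (hx : x ∈ Cen1 z) (e : ∀ i : Fin 4, x * g (i + 1) * x⁻¹ = g (i + 1)) : x = 1 ∨ x = z := by
  have := c.gen h (c1s.1 hx) fun i => c1s.1 (c1'.2 (e i))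
  exact h.es.center x (h.cen x hx fun q hq => c1.1 (this hq)) fun q hq => c1.1 (this hq)

theorem surj (hx : x ∈ Q) : ∃ e < 32, Ev g e = x :=
  c.gen h (F := sbM (fun x => ∃ e < 32, Ev g e = x) ⟨0, by norm_num, rfl⟩ (by
    rintro _ _ ⟨a, ha, rfl⟩ ⟨b, hb, rfl⟩
    exact ⟨_, (tA a ha b hb).1, c.mul h ha hb⟩)) ⟨1, by norm_num, c.e1 h⟩
    (fun i => ⟨cf i, by revert i; decide, (c.ef h i).1⟩) hx

theorem esi (hx : ESI Q z x) : Pr z x (Ev g 30) ∨ ∃ i : Fin 4, Pr z x (g (i + 1)) := by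
  obtain ⟨e, he, rfl⟩ := c.surj h hx.1
  rcases e_inv e he with ⟨-, e1 | e1 | ⟨i, rfl | rfl⟩⟩ | e1
  · obtain rfl | rfl : e = 0 ∨ e = 1 := by omega
    · exact absurd rfl hx.2.2.1
    · exact absurd (c.e1 h) hx.2.2.2
  · obtain rfl | rfl : e = 30 ∨ e = 31 := by omega
    · exact Or.inl (Or.inl rfl)
    · exact Or.inl (Or.inr (by rw [← c.e1 h, ← c.mul h (by decide) (by decide)]; rfl))
  · exact Or.inr ⟨i, Or.inl (c.ef h i).1⟩
  · exact Or.inr ⟨i, Or.inr (c.ef h i).2⟩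
  · exact absurd (by rw [← hx.2.1, ← c.mul h he he, e1, c.e1 h]) h.es.ne

theorem flip {y : Fin 4 → G} (hy : ∀ i, Pr z (y i) (g (i + 1))) :
    ∃ q ∈ Q, ∀ i, q * y i * q⁻¹ = g (i + 1) := by
  classical
  obtain ⟨e, he, h1⟩ := e_flip fun i => decide (y i = g (i + 1))
  refine ⟨_, c.memQ h he, fun i => ?_⟩
  have l : cf i < 32 ∧ cf i + 1 < 32 := by revert i; decide
  have := congrArg (Ev g) (h1 i)
  rw [c.mul h l.1 he, (c.ef h i).1] at this
  rw [mul_inv_eq_iff_eq_mul, ← this]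
  by_cases e' : y i = g (i + 1)
  · simp only [e', decide_true, cond_true]
    rw [c.mul h he l.1, (c.ef h i).1]
  · simp only [e', decide_false, cond_false]
    rw [c.mul h he l.2, (c.ef h i).2, (hy i).resolve_left e']

theorem ker (hx : x ∈ Cen1 z) (e : ∀ i : Fin 4, Pr z (x * g (i + 1) * x⁻¹) (g (i + 1))) : x ∈ Q := by
  obtain ⟨q, hq, e'⟩ := c.flip h e
  rw [← mul_mem_cancel_left hq]
  rcases c.cenH h (mul_mem (c1.2 (h.es.cent q hq)) hx)
    (fun i => by simpa only [mul_assoc, mul_inv_rev] using e' i) with e | e <;> rw [e]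
  exacts [one_mem _, h.es.mem]

theorem anti30 (i : Fin 4) : Ev g 30 * g (i + 1) = z * (g (i + 1) * Ev g 30) := by
  obtain ⟨l, l', e⟩ := (by decide : ∀ i, cf i < 32 ∧ mE (cf i) 30 < 32 ∧
    mE 30 (cf i) = mE 1 (mE (cf i) 30)) i
  rw [← (c.ef h i).1, ← c.mul h (by norm_num) l, e, c.mul h (by norm_num) l',
    c.mul h l (by norm_num), c.e1 h]

theorem n30 (hx : x * g 1 = g 1 * x) : Ev g 30 ≠ x := fun e => by
  have := c.anti30 h 0
  rw [e] at this
  exact h.es.ne (by simpa using hx.symm.trans this)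

theorem esi30 : ESI Q z (Ev g 30) :=
  ⟨c.memQ h (by norm_num), by rw [← c.mul h (by norm_num) (by norm_num)]; rfl, c.n30 h (by simp),
    c.n30 h (h.es.cent _ (c.i 0).1).symm⟩

theorem np30 (i : Fin 4) : ¬ Pr z (Ev g 30) (g (i + 1)) := fun e => by
  have := c.anti30 h i
  have z1 := h.es.cent _ (c.i i).1
  refine h.es.ne ?_
  rcases e with e | e <;> rw [e] at this
  · simpa using this
  · rw [← mul_assoc (g _), z1] at this
    simpa using this

end Cl

theorem St.qpr (h : St Q z) (hx : x ∈ Q) (hy : y ∈ Q) : Pr z (x * y * x⁻¹) y := by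
  by_cases e : x * y = y * x
  · exact Or.inl (by rw [e, mul_inv_cancel_right])
  · exact Or.inr (h.es.conj_eq hx hy e)

/-- letters -/
def gl (z : G) (f : Fin 4 → G) (u v d s : G) (n : ℕ) : G :=
  [z, f 0, f 1, f 2, f 3, u, v, d, d⁻¹, s].getD n 1

theorem gl_f (z : G) (f : Fin 4 → G) (u v d s : G) (i : Fin 4) : gl z f u v d s (i + 1) = f i := by
  fin_cases i <;> rfl

theorem cl_gl {f : Fin 4 → G} (h1 : ∀ i, ESI Q z (f i)) (h2 : ∀ i j, Pr z (f i) (f j) → i = j)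
    (u v d s : G) : Cl Q z (gl z f u v d s) :=
  ⟨rfl, by simpa only [gl_f] using h1, by simpa only [gl_f] using h2⟩

theorem St.eight (h : St Q z) : 8 ≤ Nat.card {x // ESI Q z x} := by
  obtain ⟨x, x1, x2, x3, x4⟩ := H8.es_exists_inv h.es le_rfl fun a ha => by
    have := h.es.card_le_two_mul ha le_rfl
    rw [h.card] at this
    change 4 < Nat.card ↥(Q ⊓ centralizer {a})
    omega
  have c16 : Nat.card {q // q ∈ Q ∧ x * q = q * x} = 16 := by
    rw [← H8.es_c16 h.es h.card x1 x3 x4]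
    exact H9.card_subtype_congr fun q => and_congr_right fun _ => H9.mem_Cen.symm
  have s1 := H9.card_subtype_split (· ∈ Q) fun q => x * q = q * x
  have s2 := H9.card_subtype_split (fun q => q ∈ Q ∧ ¬ x * q = q * x) fun q => q * q = 1
  have s3 : Nat.card {q // (q ∈ Q ∧ ¬ x * q = q * x) ∧ q * q = 1} =
      Nat.card {q // (q ∈ Q ∧ ¬ x * q = q * x) ∧ ¬ q * q = 1} := by
    refine Nat.card_congr (Equiv.subtypeEquiv (Equiv.mulLeft x) fun q => ?_)
    simp only [Equiv.coe_mulLeft, mul_mem_cancel_left x1, mul_assoc x q x, mul_right_inj]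
    refine and_congr_right fun ⟨q1, q2⟩ => ?_
    rw [H8.es_sq_mul h.es x1 q1 q2, x2, mul_one]
    rcases h.es.sq q q1 with e | e <;> rw [e]
    · simp [h.es.ne]
    · simp [h.es.sq_z, h.es.ne]
  have s4 : Nat.card {q // (q ∈ Q ∧ ¬ x * q = q * x) ∧ q * q = 1} ≤ Nat.card {x // ESI Q z x} :=
    H9.card_subtype_le_of_imp fun q c => ⟨c.1.1, c.2, fun e => c.1.2 (by simp [e]),
      fun e => c.1.2 (e ▸ h.es.cent x x1)⟩
  have hQ' : Nat.card {q // q ∈ Q} = 32 := h.card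
  omega

theorem St.cl0 (h : St Q z) : ∃ g, Cl Q z g := by
  classical
  have zz := h.es.sq_z
  have ex : ∀ a b c : G, ∃ x, ESI Q z x ∧ ¬ Pr z x a ∧ ¬ Pr z x b ∧ ¬ Pr z x c := fun a b c => by
    by_contra hn
    have h1 : Nat.card {x // ESI Q z x} ≤
        Nat.card {x // x ∈ ({a, z * a, b, z * b, c, z * c} : Finset G)} :=
      H9.card_subtype_le_of_imp fun x hx => by
        by_contra e
        simp only [Finset.mem_insert, Finset.mem_singleton, not_or] at e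
        exact hn ⟨x, hx, not_or.2 ⟨e.1, e.2.1⟩, not_or.2 ⟨e.2.2.1, e.2.2.2.1⟩, not_or.2 e.2.2.2.2⟩
    rw [Nat.card_eq_finsetCard] at h1
    have := h.eight
    have := Finset.card_le_six (a := a) (b := z * a) (c := b) (d := z * b) (e := c) (f := z * c)
    omega
  obtain ⟨a, ha, -⟩ := ex 1 1 1
  obtain ⟨b, hb, b1, -⟩ := ex a a a
  obtain ⟨c, hc, c1, c2, -⟩ := ex a b b
  obtain ⟨d, hd, d1, d2, d3⟩ := ex a b c
  refine ⟨_, cl_gl (f := ![a, b, c, d]) (fun i => by fin_cases i <;> assumption) (fun i j e => ?_)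
    1 1 1 1⟩
  have e' := e.symm zz
  fin_cases i <;> fin_cases j <;> first | rfl | contradiction

theorem perm5 : ∀ x : Perm (Fin 5), x * x = 1 → x ≠ 1 → ∀ y, y * y = 1 → y ≠ 1 → x ≠ y →
    x * y = y * x → ∃ i, x i = i ∧ y i = i ∧ ∀ j, x j = j → y j = j → j = i := by
  decide +kernel

def pu : Perm (Fin 4) := ⟨![1, 0, 3, 2], ![1, 0, 3, 2], by decide, by decide⟩
def pv : Perm (Fin 4) := ⟨![3, 2, 1, 0], ![3, 2, 1, 0], by decide, by decide⟩
def pd : Perm (Fin 4) := ⟨![1, 2, 0, 3], ![2, 0, 1, 3], by decide, by decide⟩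
def ps : Perm (Fin 4) := ⟨![1, 0, 2, 3], ![1, 0, 2, 3], by decide, by decide⟩

theorem St.cl1 (h : St Q z) : ∃ f : Fin 4 → G, (∀ i, ESI Q z (f i)) ∧
    (∀ i j, Pr z (f i) (f j) → i = j) ∧ ∀ x ∈ Cen1 z, ∀ i, ∃ j, Pr z (x * f i * x⁻¹) (f j) := by
  obtain ⟨g, c⟩ := h.cl0
  have zz := h.es.sq_z
  let F : Fin 5 → G := Fin.cons (Ev g 30) fun i : Fin 4 => g (i + 1)
  have F1 : ∀ i, ESI Q z (F i) := Fin.cases (c.esi30 h) c.i
  have F2 : ∀ i j, Pr z (F i) (F j) → i = j := Fin.cases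
    (Fin.cases (fun _ => rfl) fun j e => absurd e (c.np30 h j))
    fun i => Fin.cases (fun e => absurd (e.symm zz) (c.np30 h i)) fun j e => by rw [c.ne i j e]
  obtain ⟨σ, hσ⟩ := act zz F2 fun x hx i =>
    (c.esi h ((F1 i).conj (fun q hq => cmem (h.nor hx) hq) (c1.1 hx))).elim (fun e => ⟨0, e⟩)
      fun ⟨j, e⟩ => ⟨j.succ, e⟩
  obtain ⟨ρ, ρ1, ρ2⟩ := h.quo
  have k : ∀ a, σ a = 1 ↔ ρ a = 1 := fun a => by
    rw [ρ2]
    refine ⟨fun e => c.ker h a.2 fun i => by have := hσ a i.succ; rwa [e] at this, fun e => ?_⟩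
    ext i
    exact congrArg _ (F2 _ _ (((hσ a i).symm zz).trans zz (h.qpr e (F1 i).1)))
  have k' : ∀ a b, σ a = σ b ↔ ρ a = ρ b := fun a b => by
    rw [← mul_inv_eq_one, ← map_inv, ← map_mul, k, map_mul, map_inv, mul_inv_eq_one]
  obtain ⟨u, hu⟩ := ρ1 pu
  obtain ⟨v, hv⟩ := ρ1 pv
  obtain ⟨i, i1, i2, i3⟩ := perm5 (σ u) (by rw [← map_mul, k, map_mul, hu]; decide)
    (by rw [Ne, k, hu]; decide) (σ v) (by rw [← map_mul, k, map_mul, hv]; decide)
    (by rw [Ne, k, hv]; decide) (by rw [Ne, k', hu, hv]; decide)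
    (by rw [← map_mul, ← map_mul, k', map_mul, map_mul, hu, hv]; decide)
  have fx : ∀ a, σ a i = i := fun a => by
    have : ∀ w, ρ w = pu ∨ ρ w = pv → σ w (σ a i) = σ a i := fun w hw => by
      have e : σ (a⁻¹ * w * a) i = i := by
        have := (by decide +kernel : ∀ π w : Perm (Fin 4), w = pu ∨ w = pv → π⁻¹ * w * π = pu ∨
          π⁻¹ * w * π = pv ∨ π⁻¹ * w * π = pu * pv) (ρ a) _ hw
        rw [← map_inv, ← map_mul, ← map_mul, ← hu, ← hv, ← map_mul, ← k', ← k', ← k'] at this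
        rcases this with e | e | e <;> rw [e]
        · exact i1
        · exact i2
        · rw [map_mul, Perm.mul_apply, i2, i1]
      rwa [map_mul, map_mul, map_inv, Perm.mul_apply, Perm.mul_apply, Perm.inv_eq_iff_eq] at e
    exact i3 _ (this u (Or.inl hu)) (this v (Or.inr hv))
  refine ⟨fun j => F (i.succAbove j), fun j => F1 _,
    fun j l e => Fin.succAbove_right_injective (F2 _ _ e), fun x hx j => ?_⟩
  obtain ⟨l, e⟩ := Fin.exists_succAbove_eq (x := σ ⟨x, hx⟩ (i.succAbove j)) (y := i) fun e =>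
    Fin.succAbove_ne i j ((σ ⟨x, hx⟩).injective (e.trans (fx _).symm))
  exact ⟨l, by simpa only [e] using hσ ⟨x, hx⟩ (i.succAbove j)⟩

/-- `x` permutes the generators according to `π` -/
def Lf (z : G) (f : Fin 4 → G) (x : G) (π : Perm (Fin 4)) : Prop :=
  x ∈ Cen1 z ∧ ∀ i, x * f i * x⁻¹ = f (π i)

section Lf

variable {f : Fin 4 → G} {π τ : Perm (Fin 4)}

theorem Lf.mul (a : Lf z f x π) (b : Lf z f y τ) : Lf z f (x * y) (π * τ) :=
  ⟨mul_mem a.1 b.1, fun i => by rw [Perm.mul_apply, ← a.2, ← b.2]; group⟩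

theorem Lf.inv (a : Lf z f x π) : Lf z f x⁻¹ π⁻¹ :=
  ⟨inv_mem a.1, fun i => by
    obtain ⟨i, rfl⟩ := π.surjective i
    rw [← a.2, show π⁻¹ (π i) = i from π.symm_apply_apply i]; group⟩

theorem Lf.eq (a : Lf z f x π) (i : Fin 4) : x * f i = f (π i) * x := by
  rw [← a.2, inv_mul_cancel_right]

end Lf

/-- the coded centralizer -/
structure Cd (al be : Bool) (w : ℕ → G) (z : G) : Prop where
  mul : ∀ x < 768, ∀ y < 768, w (m al be x y) = w x * w y
  inj : ∀ x < 768, ∀ y < 768, w x = w y → x = y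
  mem : ∀ g, g ∈ Cen1 z ↔ ∃ x < 768, w x = g
  z1 : w 1 = z

theorem St.cardH (h : St Q z) : Nat.card (Cen1 z) = 768 := by
  obtain ⟨ρ, ρ1, ρ2⟩ := h.quo
  have e : ρ.ker = Q.subgroupOf _ := Subgroup.ext ρ2
  rw [← ρ.ker.index_mul_card, index_ker, MonoidHom.range_eq_top.2 ρ1, card_top, e,
    Nat.card_congr (subgroupOfEquivOfLe fun q hq => c1.2 (h.es.cent q hq)).toEquiv, h.card,
    Nat.card_eq_fintype_card]
  rfl

/-- sign -/
def zb (z : G) (b : Bool) : G := bif b then z else 1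

theorem ex_zb (h : x = 1 ∨ x = z) : ∃ b, x = zb z b := h.elim (⟨false, ·⟩) (⟨true, ·⟩)

theorem St.cd (h : St Q z) : ∃ al be w, Cd al be w z := by
  obtain ⟨f, f1, f2, f3⟩ := h.cl1
  have zz := h.es.sq_z
  have c := cl_gl f1 f2 1 1 1 1
  obtain ⟨σ, hσ⟩ := act zz f2 f3
  have k : ∀ a, σ a = 1 ↔ (a : G) ∈ Q := fun a => by
    refine ⟨fun e => c.ker h a.2 fun i => ?_, fun e => ?_⟩
    · have := hσ a i; rw [e] at this; rwa [gl_f]
    · ext i
      exact congrArg _ (f2 _ _ (((hσ a i).symm zz).trans zz (h.qpr e (f1 i).1)))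
  have sj : Function.Surjective σ := by
    obtain ⟨ρ, ρ1, ρ2⟩ := h.quo
    have e : σ.ker = ρ.ker := Subgroup.ext fun a => (k a).trans (ρ2 a).symm
    rw [← MonoidHom.range_eq_top]
    exact eq_top_of_card_eq _ (by
      rw [← index_ker, e, index_ker, MonoidHom.range_eq_top.2 ρ1, card_top])
  have ex : ∀ π, ∃ x, Lf z f x π := fun π => by
    obtain ⟨a, rfl⟩ := sj π
    obtain ⟨q, hq, e⟩ := c.flip h (y := fun i => a * f ((σ a)⁻¹ i) * (a : G)⁻¹) fun i => by
      have := hσ a ((σ a)⁻¹ i)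
      rwa [show σ a ((σ a)⁻¹ i) = i from (σ a).apply_symm_apply i, ← gl_f z f 1 1 1 1 i] at this
    refine ⟨q * a, mul_mem (c1.2 (h.es.cent q hq)) a.2, fun i => ?_⟩
    have := e (σ a i)
    rw [show (σ a)⁻¹ (σ a i) = i from (σ a).symm_apply_apply i, gl_f] at this
    rw [← this]; group
  have one : ∀ {x π}, Lf z f x π → π = 1 → x = 1 ∨ x = z := fun a e =>
    c.cenH h a.1 fun i => by rw [gl_f, a.2, e]; rfl
  have lz : Lf z f z 1 := ⟨c1.2 rfl, fun i => by rw [← h.es.cent _ (f1 i).1]; simp⟩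
  obtain ⟨d, ld, d3⟩ : ∃ d, Lf z f d pd ∧ d * d = d⁻¹ := by
    obtain ⟨d, ld⟩ := ex pd
    rcases one ((ld.mul ld).mul ld) (by decide) with e | e
    · exact ⟨d, ld, eq_inv_of_mul_eq_one_left e⟩
    · refine ⟨z * d, lz.mul ld, eq_inv_of_mul_eq_one_left ?_⟩
      rw [← pow_three', (show Commute z d from (c1.1 ld.1).symm).mul_pow, pow_three' d, e,
        ← pow_succ, show 3 + 1 = 2 * 2 by rfl, pow_mul, sq z, zz, one_pow]
  obtain ⟨u, lu, du⟩ : ∃ u, Lf z f u pu ∧ d * (d * u * d⁻¹) * d⁻¹ = u * (d * u * d⁻¹) := by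
    obtain ⟨u, lu⟩ := ex pu
    have lv := (ld.mul lu).mul ld.inv
    rcases one (((ld.mul lv).mul ld.inv).mul (lu.mul lv).inv) (by decide) with e | e
    · exact ⟨u, lu, mul_inv_eq_one.1 e⟩
    · refine ⟨z * u, lz.mul lu, ?_⟩
      have k : ∀ x, d * (z * x) * d⁻¹ = z * (d * x * d⁻¹) := fun x => by
        rw [← conj_mul, c1'.1 ld.1]
      rw [k, k, mul_inv_eq_iff_eq_mul.1 e, mul_assoc z u, ← mul_assoc u z, c1.1 lu.1,
        mul_assoc z u]
  obtain ⟨s, ls⟩ := ex ps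
  obtain ⟨v, hv⟩ : ∃ v, v = d * u * d⁻¹ := ⟨_, rfl⟩
  have lv : Lf z f v pv := hv ▸ (show pd * pu * pd⁻¹ = pv by decide) ▸ (ld.mul lu).mul ld.inv
  rw [← hv] at du
  obtain ⟨be, uu⟩ := ex_zb (one (lu.mul lu) (by decide))
  obtain ⟨al, ss⟩ := ex_zb (one (ls.mul ls) (by decide))
  obtain ⟨ka, su⟩ := ex_zb (one ((ls.mul lu).mul (lu.mul ls).inv) (by decide))
  have cz : ∀ b, ∀ x ∈ Cen1 z, x * zb z b = zb z b * x := fun b x hx => by
    cases b
    · simp [zb]
    · exact c1.1 hx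
  have cz' : ∀ b, ∀ x ∈ Cen1 z, x * zb z b * x⁻¹ = zb z b := fun b x hx => by
    rw [cz b x hx, mul_inv_cancel_right]
  have bb : ∀ b, zb z b * zb z b = 1 := fun b => by
    cases b
    · simp [zb]
    · exact zz
  have vv : v * v = zb z be := by rw [hv, conj_mul, uu, cz' _ _ ld.1]
  have vu : v * u = zb z be * (u * v) := by
    have e : u * v * (u * v) = zb z be := by rw [← du, conj_mul, vv, cz' _ _ ld.1]
    calc _ = u⁻¹ * (u * v * (u * v)) * v⁻¹ := by group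
      _ = zb z be * (u⁻¹ * (u * u * (u * u))) * (v * v * (v * v) * v⁻¹) := by
        rw [e, uu, vv, bb, cz _ _ lu.inv.1]; group
      _ = zb z be * (u * u) * (u * (v * v) * v) := by group
      _ = _ := by rw [uu, vv, bb, one_mul, cz _ _ lu.1, mul_assoc]
  have sd : s * d * s⁻¹ = d⁻¹ := by
    rcases one (((ls.mul ld).mul ls.inv).mul ld) (by decide) with e | e
    · exact eq_inv_of_mul_eq_one_left e
    · refine absurd ?_ h.es.ne
      have e1 : s * d * s⁻¹ = z * d⁻¹ := eq_mul_inv_of_mul_eq e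
      have e2 : s * d * s⁻¹ * (s * d * s⁻¹) = (s * d * s⁻¹)⁻¹ := by rw [conj_mul, d3]; group
      rw [e1, mul_assoc, ← mul_assoc d⁻¹, c1.1 ld.inv.1, ← mul_assoc, ← mul_assoc, zz,
        one_mul, ← mul_inv_rev, d3, mul_inv_rev, inv_inv] at e2
      simpa using e2
  have dv : d⁻¹ * u * d = u * v := by
    rw [← du, hv]
    calc _ = (d * d) * u * (d * d)⁻¹ := by rw [d3, inv_inv]
      _ = _ := by group
  have dv' : d⁻¹ * v * d = u := by rw [hv]; group
  rw [mul_inv_eq_iff_eq_mul] at su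
  have su' : s * u * s⁻¹ = zb z ka * u := by rw [su]; group
  have sv : s * v * s⁻¹ = zb z ka * (u * v) := by
    calc _ = (s * d * s⁻¹) * (s * u * s⁻¹) * (s * d * s⁻¹)⁻¹ := by rw [hv]; group
      _ = (d⁻¹ * zb z ka * d⁻¹⁻¹) * (d⁻¹ * u * d) := by rw [sd, su']; group
      _ = _ := by rw [cz' _ _ ld.inv.1, dv]
  have kb : zb z ka = zb z be := by
    have e1 : s * (u * v) * s⁻¹ = zb z be * v := by
      rw [← conj_mul, su', sv, mul_assoc, ← mul_assoc u, cz _ _ lu.1, ← mul_assoc, ← mul_assoc,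
        ← mul_assoc, bb, one_mul, uu]
    have e2 : s * (u * v) * s⁻¹ = zb z ka * v := by
      calc _ = (s * d * s⁻¹) * (s * v * s⁻¹) * (s * d * s⁻¹)⁻¹ := by rw [← du]; group
        _ = (d⁻¹ * zb z ka * d⁻¹⁻¹) * ((d⁻¹ * u * d) * (d⁻¹ * v * d)) := by rw [sd, sv]; group
        _ = zb z ka * (u * (v * u)) := by rw [cz' _ _ ld.inv.1, dv, dv', mul_assoc u]
        _ = _ := by rw [vu, ← mul_assoc u, cz _ _ lu.1, mul_assoc, ← mul_assoc u, uu,
          ← mul_assoc (zb z be), bb, one_mul]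
    exact mul_right_cancel (e2.symm.trans e1)
  rw [kb] at su sv
  have c' := cl_gl f1 f2 u v d s
  obtain ⟨g, hg⟩ : ∃ g, g = gl z f u v d s := ⟨_, rfl⟩
  have rB' : ∀ r ∈ rE ++ rB, g r.1 * g r.2.1 = ev g r.2.2 := by
    refine List.forall_mem_append.2 ⟨hg ▸ c'.rE h, ?_⟩
    simp only [rB, List.forall_mem_cons, List.not_mem_nil, false_imp_iff, implies_true, and_true,
      ev_cons, ev_nil, mul_one, hg]
    exact ⟨c1.1 lu.1, lu.eq 0, lu.eq 1, lu.eq 2, lu.eq 3, c1.1 lv.1, lv.eq 0, lv.eq 1, lv.eq 2,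
      lv.eq 3, c1.1 ld.1, ld.eq 0, ld.eq 1, ld.eq 2, ld.eq 3, c1.1 ld.inv.1, ld.inv.eq 0,
      ld.inv.eq 1, ld.inv.eq 2, ld.inv.eq 3, c1.1 ls.1, ls.eq 0, ls.eq 1, ls.eq 2, ls.eq 3⟩
  have rS' : ∀ r ∈ rE ++ rB ++ rS al be, g r.1 * g r.2.1 = ev g r.2.2 := by
    refine List.forall_mem_append.2 ⟨rB', ?_⟩
    have : ∀ b, ev g (zw b) = zb z b := fun b => by
      cases b
      · rfl
      · rw [hg]; exact mul_one _
    simp only [rS, List.forall_mem_cons, List.not_mem_nil, false_imp_iff, implies_true, and_true,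
      ev_cons, ev_nil, ev_append, this, mul_one]
    rw [hg]
    refine ⟨uu, vu, vv, ?_, ?_, d3, mul_inv_cancel d, ?_, ?_, inv_mul_cancel d, ?_, su, ?_, ?_, ?_, ss⟩
    · change d * u = v * d; rw [hv]; group
    · change d * v = u * (v * d); rw [← mul_assoc, ← du]; group
    · change d⁻¹ * u = u * (v * d⁻¹); rw [← mul_assoc, ← dv]; group
    · change d⁻¹ * v = u * d⁻¹; rw [← dv']; group
    · change d⁻¹ * d⁻¹ = d; rw [← mul_inv_rev, d3, inv_inv]
    · change s * v = _ * (u * (v * s)); rw [← mul_assoc u, ← mul_assoc, ← sv]; group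
    · change s * d = d⁻¹ * s; rw [← sd]; group
    · change s * d⁻¹ = d * s
      calc _ = (s * d * s⁻¹)⁻¹ * s := by group
        _ = _ := by rw [sd, inv_inv]
  rw [← hg] at c'
  have B : ∀ k < 24, ∀ e < 32, ev g (nfS k) * Ev g e = Ev g (tB k e) * ev g (nfS k) :=
    fun k hk e he => by rw [Ev, Ev, ← ev_append, ← ev_append, ← (tB' k hk e he).2, ev_col rB']
  have sH : ∀ k < 24, ev g (nfS k) ∈ Cen1 z := fun k hk => by
    rw [c1, ← c'.e1 h, B k hk 1 (by norm_num), (by decide : ∀ k < 24, tB k 1 = 1) k hk]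
  let w : ℕ → G := fun x => Ev g (x % 32) * ev g (nfS (x / 32))
  have wm : ∀ x < 768, w x ∈ Cen1 z := fun x hx =>
    mul_mem (c1.2 (h.es.cent _ (c'.memQ h (by omega)))) (sH _ (by omega))
  have ws : ∀ x ∈ Cen1 z, ∃ y < 768, w y = x := fun x hx => by
    obtain ⟨k, hk, e⟩ := e_perm (σ ⟨x, hx⟩)
    have : x * (ev g (nfS k))⁻¹ ∈ Q := by
      refine c'.ker h (mul_mem hx (inv_mem (sH k hk))) fun i => ?_
      obtain ⟨i, rfl⟩ := (σ ⟨x, hx⟩).surjective i
      have e1 := B k hk (cf i) (by revert i; decide)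
      rw [e, (c'.ef h _).1, (c'.ef h _).1] at e1
      have e2 := hσ ⟨x, hx⟩ i
      rw [← gl_f z f u v d s, ← gl_f z f u v d s, ← hg] at e2
      rwa [mul_inv_rev, inv_inv, mul_assoc x, mul_assoc x, mul_assoc _⁻¹, ← mul_assoc (g _), ← e1,
        mul_assoc (ev g _),
        inv_mul_cancel_left, ← mul_assoc]
    obtain ⟨a, ha, e'⟩ := c'.surj h this
    refine ⟨a + 32 * k, by omega, ?_⟩
    simp only [w]
    rw [show (a + 32 * k) % 32 = a by omega, show (a + 32 * k) / 32 = k by omega, e',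
      inv_mul_cancel_right]
  refine ⟨al, be, w, fun x hx y hy => ?_, fun x hx y hy e => ?_,
    fun x => ⟨ws x, by rintro ⟨y, hy, rfl⟩; exact wm y hy⟩, (mul_one _).trans (c'.e1 h)⟩
  · obtain ⟨p1, p2, p3⟩ := tC al be (x / 32) (by omega) (y / 32) (by omega)
    have b1 := (tB' (x / 32) (by omega) (y % 32) (by omega)).1
    have a1 := (tA (x % 32) (by omega) _ b1).1
    have a2 := (tA _ a1 (sg al be (x / 32) (y / 32)) (by omega)).1
    have C := congrArg (ev g) p3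
    rw [ev_col rS', ev_append, ev_append] at C
    simp only [w, m]
    generalize hE : mE (mE _ _) _ = E at *
    rw [show (E + 32 * pm (x / 32) (y / 32)) % 768 % 32 = E by omega,
      show (E + 32 * pm (x / 32) (y / 32)) % 768 / 32 = pm (x / 32) (y / 32) by omega, ← hE,
      c'.mul h a1 (by omega), c'.mul h (by omega) b1, mul_assoc, mul_assoc, mul_assoc,
      ← mul_assoc (ev g _), B _ (by omega) _ (by omega), mul_assoc, C]
    rfl
  · have := (Function.Surjective.bijective_of_nat_card_le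
      (f := fun x : Fin 768 => (⟨w x, wm x x.2⟩ : Cen1 z)) (fun x => by
        obtain ⟨y, hy, e⟩ := ws x x.2
        exact ⟨⟨y, hy⟩, Subtype.ext e⟩) (by rw [h.cardH]; simp)).1
    exact congrArg Fin.val (@this ⟨x, hx⟩ ⟨y, hy⟩ (Subtype.ext e))

theorem St.odd (h : St Q z) {N : Subgroup G} [hN : N.Normal] (ho : Odd (Nat.card N)) (hx : x ∈ N) :
    z * x * z⁻¹ = x⁻¹ := by
  have oz := MT.o2 h.es.sq_z h.es.ne
  refine inv_of_fpf ho oz (le_normalizer_of_normal (mem_top z)) (eq_bot_iff.2 fun y ⟨hy, hc⟩ => ?_) hx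
  have e : ∀ q ∈ Q, q * y = y * q := fun q hq => by
    have m1 : y * q * y⁻¹ * q⁻¹ ∈ Q := mul_mem (cmem (h.nor hc) hq) (inv_mem hq)
    have m2 : y * q * y⁻¹ * q⁻¹ ∈ N := by
      simpa only [mul_assoc] using N.mul_mem hy (hN.conj_mem _ (inv_mem hy) q)
    have := eq_one_of_odd_sq (odd_ord ho m2) ((h.es.sq _ m1).elim id fun e =>
      absurd (e ▸ mul_mem m2 m2) (not_mem_odd ho oz))
    rw [mul_inv_eq_one, mul_inv_eq_iff_eq_mul] at this
    exact this.symm
  exact (h.es.center y (h.cen y hc e) e).resolve_right fun e => not_mem_odd ho oz (e ▸ hy)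

end AL
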