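import Cfsg.Agent.AL.B
import Cfsg.Agent.H9.Hall

/-! Fusion and transfer. -/

set_option autoImplicit false
set_option linter.unusedVariables false
set_option linter.unusedSectionVars false

namespace AL

open Cfsg Subgroup FT GW H4
open H5 (IsSylowOf card_mul_relIndex)
open MT (o2 isConj_mk)

variable {G : Type*} [Group G] [Finite G] {z g : G} {w : ℕ → G} {al be : Bool} {x y r s c : ℕ}

theorem odd_idx {L P : Subgroup G} (hP : IsPGroup 2 P) (h1 : P ≤ L ⊓ Cen1 z)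
    (h : ∀ l ∈ L, P ≤ Cen1 (l * z * l⁻¹) → l ∈ Cen1 z) : Odd ((Cen1 z).relIndex L) := by
  have e := (H5.isPGroup_subgroupOf hP L).card_modEq_card_fixedPoints (L ⧸ (Cen1 z).subgroupOf L)
  have k : ∀ (p : P.subgroupOf L) (l : L), p • (l : L ⧸ (Cen1 z).subgroupOf L) = l ↔
      ((p : L) : G) ∈ Cen1 (l * z * (l : G)⁻¹) := fun p l => by
    rw [eq_comm, ← conj_c1, mem_conjS]
    exact QuotientGroup.eq.trans (by rw [mem_subgroupOf, mul_assoc]; rfl)
  have e' : MulAction.fixedPoints (P.subgroupOf L) (L ⧸ (Cen1 z).subgroupOf L) = {↑(1 : L)} := by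
    ext q
    induction q using QuotientGroup.induction_on with | H l => ?_
    rw [MulAction.mem_fixedPoints, Set.mem_singleton_iff, eq_comm, QuotientGroup.eq, inv_one,
      one_mul, mem_subgroupOf]
    refine ⟨fun a => h l l.2 fun p hp => (k ⟨⟨p, (h1 hp).1⟩, hp⟩ l).1 (a _), fun a p => (k p l).2 ?_⟩
    rw [c1'.1 a]
    exact (h1 p.2).2
  rw [e', Nat.card_coe_set_eq, Set.ncard_singleton] at e
  exact Nat.odd_iff.2 e

theorem conj_of_odd_idx {L : Subgroup G} (h : Odd ((Cen1 z).relIndex L)) (hg : g ∈ L) {k : ℕ}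
    (e : g ^ 2 ^ k = 1) : ∃ l ∈ L, l * g * l⁻¹ ∈ Cen1 z := by
  obtain ⟨P, hP⟩ := H5.exists_isSylowOf 2 (Cen1 z ⊓ L)
  have : IsSylowOf 2 P L := ⟨hP.le.trans inf_le_right, hP.isPGroup, by
    rw [← relIndex_mul_relIndex P _ L hP.le inf_le_right, inf_relIndex_right]
    exact fun d => (Nat.prime_two.dvd_mul.1 d).elim hP.not_dvd (Odd.not_two_dvd_nat h)⟩
  obtain ⟨l, hl, e⟩ := MT.conj_in this hg e
  exact ⟨l, hl, (hP.le e).1⟩

namespace Cd

variable (h : Cd al be w z)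
include h

theorem w0 : w 0 = 1 := by
  have := h.mul 0 (by norm_num) 0 (by norm_num)
  rw [(f_E al be).1] at this
  exact mul_left_cancel (a := w 0) (by rw [← this, mul_one])

theorem ne1 (hx : x < 768) (x0 : x ≠ 0) : w x ≠ 1 := fun e =>
  x0 (h.inj x hx 0 (by norm_num) (e.trans h.w0.symm))

theorem sq (hx : x < 768) : w x * w x = 1 ↔ m al be x x = 0 := by
  rw [← h.mul x hx x hx]
  exact ⟨fun e => by_contra fun n => h.ne1 (m_lt ..) n e, fun e => e ▸ h.w0⟩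

theorem oz : orderOf z = 2 :=
  h.z1 ▸ o2 ((h.sq (by norm_num)).2 ((by decide : ∀ al be, m al be 1 1 = 0) al be)) (h.ne1 (by norm_num) (by norm_num))

theorem wm (hx : x < 768) : w x ∈ Cen1 z := (h.mem _).2 ⟨x, hx, rfl⟩

theorem comm (hx : x < 768) (hy : y < 768) : w x ∈ Cen1 (w y) ↔ cm al be x y := by
  rw [c1, ← h.mul x hx y hy, ← h.mul y hy x hx]
  exact ⟨h.inj _ (m_lt ..) _ (m_lt ..), congrArg w⟩

theorem cj' {t : ℕ} (ht : t < 768) (hx : x < 768) (hr : r < 768) (e : m al be t r = m al be x t) :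
    w t * w r * (w t)⁻¹ = w x := by
  rw [← h.mul t ht r hr, e, h.mul x hx t ht, mul_inv_cancel_right]

theorem cj (hx : x < 768) (hr : r < 768) (e : cj al be x r) : IsConj (w r) (w x) :=
  h.cj' (tb_lt ..) hx hr e ▸ isConj_mk _ _

theorem card (p : ℕ → Prop) [DecidablePred p] {A : Subgroup G}
    (hA : ∀ g, g ∈ A ↔ ∃ x < 768, p x ∧ w x = g) :
    Nat.card A = ((Finset.range 768).filter p).card := by
  classical
  rw [← Finset.card_image_of_injOn (f := w) fun a ha b hb =>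
    h.inj a (by simpa using (Finset.mem_filter.1 ha).1) b (by simpa using (Finset.mem_filter.1 hb).1),
    ← Nat.card_eq_finsetCard]
  exact H9.card_subtype_congr fun g => by simp only [hA, Finset.mem_image, Finset.mem_filter,
    Finset.mem_range, and_assoc]

theorem card_le {p q : ℕ → Prop} [DecidablePred p] [DecidablePred q]
    (e : ∀ c < 768, p c → ∃ d < 768, q d ∧ w d = g * w c * g⁻¹) :
    ((Finset.range 768).filter p).card ≤ ((Finset.range 768).filter q).card := by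
  choose! f f1 f2 f3 using e
  simp only [← Finset.mem_range] at f1 f2 f3
  refine Finset.card_le_card_of_injOn f (fun a ha => ?_) fun a ha b hb e => ?_
  · have := Finset.mem_filter.1 ha
    exact Finset.mem_filter.2 ⟨f1 a this.1 this.2, f2 a this.1 this.2⟩
  · have h1 := Finset.mem_filter.1 ha
    have h2 := Finset.mem_filter.1 hb
    have := (f3 a h1.1 h1.2).symm.trans (e ▸ f3 b h2.1 h2.2)
    exact h.inj a (Finset.mem_range.1 h1.1) b (Finset.mem_range.1 h2.1) (by simpa using this)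

/-- coded subgroups -/
def sb (n : ℕ) (h0 : 0 < n) (h1 : n ≤ 768) (hn : ∀ x < n, ∀ y < n, m al be x y < n) : Subgroup G :=
  sbM (fun g => ∃ x < 768, x < n ∧ w x = g) ⟨0, by norm_num, h0, h.w0⟩ (by
    rintro _ _ ⟨a, ha, a1, rfl⟩ ⟨b, hb, b1, rfl⟩
    exact ⟨_, m_lt .., hn a a1 b b1, h.mul a ha b hb⟩)

theorem mem_sb {n : ℕ} {h0 h1 hn} (hx : x < 768) : w x ∈ h.sb n h0 h1 hn ↔ x < n :=
  ⟨fun ⟨y, hy, y1, e⟩ => h.inj y hy x hx e ▸ y1, fun e => ⟨x, hx, e, rfl⟩⟩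

theorem sb_le {n : ℕ} {h0 h1 hn} : h.sb n h0 h1 hn ≤ Cen1 z := by
  rintro _ ⟨x, hx, -, rfl⟩; exact h.wm hx

/-- the extraspecial group -/
def E : Subgroup G := h.sb 32 (by norm_num) (by norm_num) (f_E al be).2

theorem two_E : IsPGroup 2 h.E := IsPGroup.of_card (n := 5) ((h.card _ fun _ => Iff.rfl).trans g_E)

theorem zE : z ∈ h.E := h.z1 ▸ (h.mem_sb (by norm_num)).2 (by norm_num)

theorem cenE (e : h.E ≤ Cen1 g) : g = 1 ∨ g = z := by
  obtain ⟨y, hy, rfl⟩ := (h.mem g).1 (c1s.1 (e h.zE))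
  have k : ∀ i < 32, cm al be y i := fun i hi =>
    (h.comm hy (by omega)).1 (c1s.1 (e ((h.mem_sb (by omega)).2 hi)))
  rcases f_cen al be y hy (k _ (by norm_num)) (k _ (by norm_num)) (k _ (by norm_num))
    (k _ (by norm_num)) with rfl | rfl
  exacts [Or.inl h.w0, Or.inr h.z1]

theorem cardH : Nat.card (Cen1 z) = 768 := by
  rw [h.card (fun _ => True) fun g => by simp only [h.mem, true_and]]; simp

theorem odd_top : Odd (Cen1 z).index := by
  rw [← relIndex_top_right]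
  refine odd_idx h.two_E (le_inf le_top h.sb_le) fun l _ e => c1'.2 ?_
  exact (h.cenE e).resolve_left (ine (iconj h.oz l))

theorem card_cen (hx : x < 768) : Nat.card ↥(Cen1 z ⊓ Cen1 (w x)) = cc al be x :=
  h.card _ fun g => ⟨fun ⟨a, b⟩ => by
    obtain ⟨y, hy, rfl⟩ := (h.mem g).1 a
    exact ⟨y, hy, (h.comm hy hx).1 b, rfl⟩, by
    rintro ⟨y, hy, e, rfl⟩; exact ⟨h.wm hy, (h.comm hy hx).2 e⟩⟩

theorem rep (h1 : g ∈ Cen1 z) (h2 : g * g = 1) :
    ∃ r ∈ reps al be, ∃ t ∈ Cen1 z, t * w r * t⁻¹ = g := by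
  obtain ⟨x, hx, rfl⟩ := (h.mem g).1 h1
  obtain ⟨r, hr, e⟩ := f_cl al be x hx ((h.sq hx).1 h2)
  exact ⟨r, hr, _, h.wm (tb_lt ..), h.cj' (tb_lt ..) hx (f_rep al be r hr).1 e⟩

end Cd

/-- `g` takes `z` to `w r` and `w s` to `z` -/
def Fu (w : ℕ → G) (z g : G) (r s : ℕ) : Prop := g * z * g⁻¹ = w r ∧ g * w s * g⁻¹ = z

theorem Fu.symm (f : Fu w z g r s) : Fu w z g⁻¹ s r :=
  ⟨by rw [← f.2]; group, by rw [← f.1]; group⟩

namespace Cd

variable (h : Cd al be w z)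
include h

theorem pair (hr : r < 768) (e : IsConj z (w r)) : ∃ g, ∃ s ∈ reps al be, Fu w z g r s := by
  obtain ⟨g, e⟩ := isConj_iff.1 e
  obtain ⟨s, hs, t, ht, e'⟩ := h.rep (g := g⁻¹ * z * g) (by
    rw [← mem_conjS, conj_c1, e]; exact c1s.1 (h.wm hr)) (by simpa using ii (iconj h.oz g⁻¹))
  refine ⟨g * t, s, hs, ?_, ?_⟩
  · calc _ = g * (t * z * t⁻¹) * g⁻¹ := by group
      _ = _ := by rw [c1'.1 ht, e]
  · calc _ = g * (t * w s * t⁻¹) * g⁻¹ := by group
      _ = z := by rw [e']; group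

theorem tr (f : Fu w z g r s) (hr : r < 768) (hs : s < 768) (hc : c < 768) (e : cm al be c s) :
    ∃ d < 768, cm al be d r ∧ w d = g * w c * g⁻¹ := by
  obtain ⟨d, hd, e'⟩ := (h.mem (g * w c * g⁻¹)).1 (by
    rw [← f.2, ← conj_c1]; exact conj_mem_conjS ((h.comm hc hs).2 e))
  exact ⟨d, hd, (h.comm hd hr).1 (by rw [e', ← f.1, ← conj_c1]; exact conj_mem_conjS (h.wm hc)), e'⟩

theorem zsq (hr : r < 768) (e : IsConj z (w r)) : ∃ c < 768, m al be c c = r := by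
  obtain ⟨g, s, hs, f⟩ := h.pair hr e
  obtain ⟨s1, rfl | ⟨c, hc, c1, c2⟩, -⟩ := f_rep al be s hs
  · exact absurd (by rw [← f.2, h.w0]; group) (ine h.oz)
  obtain ⟨d, hd, -, e'⟩ := h.tr f hr s1 hc c1
  exact ⟨d, hd, h.inj _ (m_lt ..) _ hr (by
    rw [h.mul d hd d hd, e', conj_mul, ← h.mul c hc c hc, c2, h.z1, f.1])⟩

theorem fr (hr : r ∈ reps al be) (e : IsConj z (w r)) : r = 1 ∨ r = 30 ∨ (r = 32 ∧ be = false) := by
  obtain ⟨r1, -, rfl | a | a | a | a⟩ := f_rep al be r hr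
  · rw [h.w0, isConj_one_left] at e
    exact absurd e (ine h.oz)
  · exact Or.inl a
  · exact Or.inr (Or.inl a)
  · exact Or.inr (Or.inr a)
  · obtain ⟨c, hc, e⟩ := h.zsq r1 e
    exact absurd e (a c hc)

theorem pair' (hr : r < 768) (r1 : r ≠ 1) (e : IsConj z (w r)) :
    ∃ g s, Fu w z g r s ∧ IsConj z (w s) ∧ (s = 30 ∨ (s = 32 ∧ be = false)) := by
  obtain ⟨g, s, hs, f⟩ := h.pair hr e
  have e' : IsConj z (w s) := f.symm.1 ▸ isConj_mk _ _
  refine ⟨g, s, f, e', (h.fr hs e').resolve_left ?_⟩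
  rintro rfl
  exact r1 (h.inj _ hr _ (by norm_num) (by have := f.2; rw [h.z1] at this ⊢; rw [← f.1, this]))

theorem fused (hi : ¬ IsIsolated z) : IsConj z (w 30) ∨ (IsConj z (w 32) ∧ be = false) := by
  rw [IsIsolated] at hi
  push Not at hi
  obtain ⟨g, e1, e2⟩ := hi
  obtain ⟨r, hr, t, ht, e⟩ := h.rep (c1.2 e1.symm.eq) (ii (iconj h.oz g))
  have e' : IsConj z (w r) := (isConj_mk g z).trans (e ▸ isConj_mk t _).symm
  rcases h.fr hr e' with rfl | rfl | ⟨rfl, a⟩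
  · exact absurd (by rw [← e, h.z1, c1'.1 ht]) e2
  · exact Or.inl e'
  · exact Or.inr ⟨e', a⟩

theorem main_case (hi : ¬ IsIsolated z) : al = false ∧ be = false := by
  refine (f_cn al be).resolve_right fun ⟨n1, n2⟩ => ?_
  have na : ¬ IsConj z (w 30) := fun e => by
    obtain ⟨g, s, f, -, hs⟩ := h.pair' (by norm_num) (by norm_num) e
    have s1 : s < 768 := by omega
    have : cn al be 30 1 ≤ cn al be s s := h.card_le (g := g⁻¹) fun c hc e => by
      obtain ⟨d, hd, d1, d2⟩ := h.tr f.symm s1 (by norm_num) hc e.1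
      exact ⟨d, hd, ⟨d1, h.inj _ (m_lt ..) _ s1 (by
        rw [h.mul d hd d hd, d2, conj_mul, ← h.mul c hc c hc, e.2, h.z1, f.symm.1])⟩, d2⟩
    rcases hs with rfl | ⟨rfl, a⟩
    · omega
    · have := n2 a; omega
  obtain ⟨e, rfl⟩ := (h.fused hi).resolve_left na
  cases al
  · exact absurd n1 (by decide +kernel)
  obtain ⟨g, s, f, e', rfl | ⟨rfl, -⟩⟩ := h.pair' (by norm_num) (by norm_num) e
  · exact na e'
  obtain ⟨a, ha, a1, a2⟩ := h.tr f (by norm_num) (by norm_num) (c := 30) (by norm_num) (by decide)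
  obtain ⟨c, hc, -, c2⟩ := h.tr f.symm (by norm_num) (by norm_num) (c := 384) (by norm_num)
    (by decide)
  have c3 : w 384 = g * w c * g⁻¹ := by rw [c2]; group
  have ca : IsConj (w 30) (w a) := a2 ▸ isConj_mk _ _
  rcases f_a' a ha a1 ((h.sq ha).1 (by
    rw [a2, conj_mul, (h.sq (by norm_num)).2 (by decide)]; group)) ((f_a c hc).imp (fun k =>
      (h.comm ha (by norm_num)).1 (by
        rw [a2, c3, ← conj_c1]; exact conj_mem_conjS ((h.comm (by norm_num) hc).2 k))) fun k =>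
      h.inj _ (m_lt ..) _ (m_lt ..) (by
        rw [h.mul _ ha _ (by norm_num), h.mul _ (by norm_num) _ (m_lt ..), h.mul _ (by norm_num) _ ha,
          a2, c3, ← f.1, conj_mul, conj_mul, conj_mul, ← h.mul _ (by norm_num) _ hc, k,
          h.mul _ (by norm_num) _ (m_lt ..), h.mul _ hc _ (by norm_num), h.z1]))
    with rfl | rfl | k
  · rw [h.w0, isConj_one_left] at ca
    exact h.ne1 (by norm_num) (by norm_num) ca
  · exact na (h.z1 ▸ ca.symm)
  · exact na ((e.trans (h.cj ha (by norm_num) k)).trans ca.symm)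

theorem solv (hO : ∀ x ∈ oddCore G, z * x * z⁻¹ = x⁻¹) (hi : IsIsolated z) : Group.IsSolvable G := by
  have := H4.isSolvable_sup (A := Cen1 z) (B := oddCore G) (le_top.trans (normalizer_eq_top _).ge)
    (H8.isSolvable_of_card_eq_prime_pow_mul Nat.prime_two Nat.prime_three 8 1 h.cardH)
    (Group.isSolvable_of_comm fun a b => Subtype.ext (comm_of_inv hO a.2 b.2))
  rw [H3.centralizer_sup_oddCore_of_isolated h.oz hi] at this
  exact Group.isSolvable_of_surjective (f := (⊤ : Subgroup G).subtype) fun g => ⟨⟨g, mem_top g⟩, rfl⟩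

end Cd

local notation "m0" => m false false
local notation "c0" => cm false false

namespace Cd

variable (h : Cd false false w z)
include h

theorem core (hO : ∀ x ∈ oddCore G, z * x * z⁻¹ = x⁻¹) (hi : ¬ IsIsolated z) : oddCore G = ⊥ := by
  have n : ∀ g, g ∈ Nor (oddCore G) := fun g => le_normalizer_of_normal (mem_top g)
  have key : ∀ r < 768, ∀ t < 768, m0 t r = m0 (m0 1 r) t → IsConj z (w r) → oddCore G = ⊥ :=
    fun r hr t ht e c => by
    have e1 := h.cj' ht (m_lt ..) hr e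
    rw [h.mul _ (by norm_num) _ hr, h.z1] at e1
    obtain ⟨g, e2⟩ := isConj_iff.1 c
    have i1 := e2 ▸ inv_conj hO (n g)
    have i2 := e1 ▸ inv_conj i1 (n (w t))
    refine eq_bot_iff.2 fun x hx => eq_one_of_inv_cen (odd_ord (odd_iff_cop.2
      (coprime_card_pPrimeCore 2 G)) hx) (i2 x hx) (c1s.1 (c1.2 (cen.1 (cen_of_inv2 hO i1) x hx)))
  exact (h.fused hi).elim (key 30 (by norm_num) 2 (by norm_num) (by decide))
    fun e => key 32 (by norm_num) 6 (by norm_num) (by decide) e.1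

theorem odd_t {t : ℕ} (ht : t ∈ [2, 384, 392]) : Odd ((Cen1 z).relIndex (Cen1 (w t))) := by
  obtain ⟨p, hp, rfl⟩ := (by decide : ∀ t ∈ [2, 384, 392], ∃ p ∈ [(2, 2), (384, 8), (392, 8)],
    p.1 = t) t ht
  obtain ⟨p1, p2, p3, p4⟩ := g_P p hp
  have p5 : p.2 < 768 := by omega
  refine odd_idx (P := h.E ⊓ Cen1 (w p.1)) (h.two_E.to_le inf_le_left)
    (le_inf inf_le_right (inf_le_left.trans h.sb_le)) fun l hl e => c1'.2 ?_
  have zt : z ∈ Cen1 (w p.1) := c1s.1 (h.wm p1)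
  obtain ⟨y, hy, e1⟩ := (h.mem _).1 (c1s.1 (e ⟨h.zE, zt⟩))
  obtain ⟨c, hc, rfl⟩ := h.zsq hy (e1 ▸ isConj_mk l z)
  have o := e1 ▸ iconj h.oz l
  rcases p4 c hc ((h.sq hy).1 (ii o)) ((h.comm hy p1).1 (e1 ▸ mul_mem (mul_mem hl zt) (inv_mem hl)))
    ((h.comm hy p5).1 (e1 ▸ c1s.1 (e ⟨(h.mem_sb p5).2 p2, (h.comm p5 p1).2 p3⟩))) with e2 | e2
  · exact absurd (e2 ▸ h.w0) (ine o)
  · rw [← e1, e2, h.z1]

theorem nsq {t : ℕ} (ht : t ∈ [2, 384, 392]) (hr : r ∈ [0, 1, 30, 32]) : ¬ IsConj (w r) (w t) :=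
  fun e => by
  obtain ⟨c, hc, rfl, c2⟩ := g_sq r hr
  obtain ⟨g, e⟩ := isConj_iff.1 e
  rw [h.mul c hc c hc, ← conj_mul] at e
  obtain ⟨l, hl, e1⟩ := conj_of_odd_idx (h.odd_t ht) (g := g * w c * g⁻¹) (k := 2)
    (e ▸ c1.2 (mul_assoc ..).symm) (by
      rw [conj_pow, show 2 ^ 2 = 2 * 2 by rfl, pow_mul, pow_two, pow_two, ← h.mul c hc c hc,
        (h.sq (m_lt ..)).2 c2]; group)
  obtain ⟨d, hd, e2⟩ := (h.mem _).1 e1
  have t1 := (by decide : ∀ t ∈ [2, 384, 392], t < 768) t ht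
  have := h.inj _ (m_lt ..) t t1 (by rw [h.mul d hd d hd, e2, conj_mul, e, c1'.1 hl])
  have := g_nsq d hd
  simp only [List.mem_cons, List.not_mem_nil, or_false] at ht
  omega

theorem ng {t : ℕ} (ht : t = 2 ∨ t = 384) : ¬ IsConj (w t) (w 392) := fun e => by
  obtain ⟨g, e⟩ := isConj_iff.1 e
  have e1 := card_mul_relIndex (inf_le_right : Cen1 z ⊓ Cen1 (w 392) ≤ _)
  rw [h.card_cen (by norm_num), g_cc.2.2.1, inf_relIndex_right, ← e, ← conj_c1, card_conjS,
    conj_c1, e] at e1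
  have e2 := card_dvd_of_le (inf_le_right : Cen1 z ⊓ Cen1 (w t) ≤ _)
  obtain ⟨k, hk⟩ := h.odd_t (t := 392) (by simp)
  rw [h.card_cen (by omega), ← e1, hk] at e2
  rcases ht with rfl | rfl
  · rw [g_cc.1] at e2; omega
  · rw [g_cc.2.1] at e2; omega

theorem lt384 : ∀ x < 384, ∀ y < 384, m0 x y < 384 := fun x hx y hy => by
  have b1 := (tB' (x / 32) (by omega) (y % 32) (by omega)).1
  have a1 := (tA (x % 32) (by omega) _ b1).1
  have a2 := (tA _ a1 _ (show sg false false (x / 32) (y / 32) < 32 by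
    have := (tC false false (x / 32) (by omega) (y / 32) (by omega)).2.1; omega)).1
  have := pm_even (x / 32) (by omega) (y / 32) (by omega)
  simp only [m]
  omega

/-- the preimage of the alternating group -/
def M3 : Subgroup G := h.sb 384 (by norm_num) (by norm_num) h.lt384

/-- the centralizer of `z` in the subgroup of index four -/
def K : Subgroup G := h.M3 ⊓ Cen1 (w 30)

theorem mem_K (hx : x < 768) : w x ∈ h.K ↔ x < 384 ∧ c0 x 30 :=
  and_congr (h.mem_sb hx) (h.comm hx (by norm_num))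

theorem K_le : h.K ≤ Cen1 z := inf_le_left.trans h.sb_le

theorem card_K : Nat.card h.K = 192 := (h.card _ fun g => ⟨fun a => by
  obtain ⟨x, hx, rfl⟩ := (h.mem g).1 (h.K_le a)
  exact ⟨x, hx, (h.mem_K hx).1 a, rfl⟩, by
  rintro ⟨x, hx, a, rfl⟩; exact (h.mem_K hx).2 a⟩).trans g_Kc

theorem K_ker (φ : G →* ℤˣ) : h.K ≤ φ.ker := fun g a => by
  obtain ⟨x, hx, rfl⟩ := (h.mem g).1 (h.K_le a)
  have := (h.mem_K hx).1 a
  rw [← g_K x this.1 this.2, h.mul _ (m_lt ..) _ (m_lt ..), h.mul _ (k1_lt _) _ (k1_lt _),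
    h.mul _ (k2_lt _) _ (k2_lt _), MonoidHom.mem_ker, map_mul, map_mul, map_mul, Int.units_mul_self,
    Int.units_mul_self, mul_one]

theorem sgn {M : Subgroup G} (h1 : M ≤ Cen1 z) (h2 : Nat.card M = 384) {t : ℕ}
    (ht : t ∈ [2, 384, 392]) (hc : ∀ x < 768, w x ∈ M → m0 x x = 0 → ∃ r ∈ [0, 1, 30, 32, s],
      AL.cj false false x r) (s1 : s < 768) (hs : ¬ IsConj (w s) (w t)) :
    ∃ φ : G →* ℤˣ, φ (w t) = -1 := by
  have e := card_mul_relIndex h1
  rw [h2, h.cardH] at e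
  obtain ⟨k, hk⟩ := h.odd_top
  obtain ⟨φ, hφ⟩ := sign_hom M (by
    rw [← relIndex_mul_index h1, hk, show M.relIndex (Cen1 z) = 2 by omega]; omega)
  have t1 := (by decide : ∀ t ∈ [2, 384, 392], t < 768 ∧ m0 t t = 0) t ht
  refine ⟨φ, hφ _ ((h.sq t1.1).2 t1.2) fun g hg => ?_⟩
  obtain ⟨x, hx, e⟩ := (h.mem _).1 (h1 hg)
  obtain ⟨r, hr, e1⟩ := hc x hx (e ▸ hg) ((h.sq hx).1 (by
    rw [e, conj_mul, (h.sq t1.1).2 t1.2]; group))
  have : r ∈ [0, 1, 30, 32] ∨ r = s := by simpa only [List.mem_cons, List.not_mem_nil, or_false,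
    or_assoc] using hr
  have r1 : r < 768 := this.elim ((by decide : ∀ r ∈ [0, 1, 30, 32], r < 768) r) (· ▸ s1)
  have c := (h.cj hx r1 e1).trans (e ▸ isConj_mk g _).symm
  rcases this with a | rfl
  exacts [h.nsq ht a c, hs c]

theorem exists_G0 : ∃ N : Subgroup G, N.Normal ∧ N ⊓ Cen1 z = h.K ∧ ∀ g : G, g * g ∈ N := by
  have a := fun t ht (e : t = 2 ∨ t = 384) => h.sgn (t := t) inf_le_left
    ((h.card_cen (by norm_num)).trans g_cc.2.2.2) ht
    (fun x hx e e' => (g_M x hx e').1 ((h.comm hx (by norm_num)).1 e.2)) (by norm_num)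
    fun c => h.ng e c.symm
  obtain ⟨φ, e1⟩ := a 2 (by simp) (by simp)
  obtain ⟨χ, e2⟩ := a 384 (by simp) (by simp)
  obtain ⟨ψ, e3⟩ := h.sgn (M := h.M3) (t := 392) h.sb_le ((h.card _ fun _ => Iff.rfl).trans g_M3)
    (by simp) (fun x hx e e' => (g_M x hx e').2 ((h.mem_sb hx).1 e)) (by norm_num)
    (h.ng (Or.inl rfl))
  refine ⟨φ.ker ⊓ χ.ker ⊓ ψ.ker, inferInstance, le_antisymm (fun g hg => ?_)
    (le_inf (le_inf (le_inf (h.K_ker _) (h.K_ker _)) (h.K_ker _)) h.K_le), fun g => ?_⟩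
  · obtain ⟨x, hx, rfl⟩ := (h.mem g).1 hg.2
    rcases g_K' x hx with e | ⟨t, ht, e⟩
    · exact (h.mem_K hx).2 e
    have k : ∀ θ : G →* ℤˣ, t < 768 → w x ∈ θ.ker → θ (w t) ≠ -1 := fun θ t1 e1 e2 => by
      have := h.K_ker θ ((h.mem_K (m_lt ..)).2 e)
      rw [MonoidHom.mem_ker, h.mul _ t1 _ hx, map_mul, e2, MonoidHom.mem_ker.1 e1] at this
      exact absurd this (by decide)
    simp only [List.mem_cons, List.not_mem_nil, or_false] at ht
    rcases ht with rfl | rfl | rfl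
    · exact absurd e1 (k φ (by norm_num) hg.1.1.1)
    · exact absurd e2 (k χ (by norm_num) hg.1.1.2)
    · exact absurd e3 (k ψ (by norm_num) hg.1.2)
  · simp only [mem_inf, MonoidHom.mem_ker, map_mul, Int.units_mul_self, and_self]

theorem solv' (e : ∀ g : G, g * z * g⁻¹ ∈ Cen1 z) : Group.IsSolvable G := by
  have k : ∀ x < 768, IsConj z (w x) → x ≠ 32 := by
    rintro _ - c rfl
    obtain ⟨g, e1⟩ := isConj_iff.1 c
    have := conj_mem_conjS (g := g) (e (g⁻¹ * w 2 * g))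
    rw [conj_c1, e1, show g * (g⁻¹ * w 2 * g * z * (g⁻¹ * w 2 * g)⁻¹) * g⁻¹ =
      w 2 * (g * z * g⁻¹) * (w 2)⁻¹ by group, e1,
      h.cj' (x := 38) (by norm_num) (by norm_num) (by norm_num) (by decide),
      h.comm (by norm_num) (by norm_num)] at this
    exact absurd this (by decide)
  have : {y | ∃ g ∈ (⊤ : Subgroup G), g * z * g⁻¹ = y} ⊆ {w 1, w 30, w 31} := by
    rintro _ ⟨g, -, rfl⟩
    obtain ⟨x, hx, e1⟩ := (h.mem _).1 (e g)
    have c : IsConj z (w x) := e1 ▸ isConj_mk g z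
    obtain ⟨r, hr, e2⟩ := f_cl false false x hx ((h.sq hx).1 (e1 ▸ ii (iconj h.oz g)))
    have r1 := (f_rep _ _ r hr).1
    have c' := c.trans (h.cj hx r1 e2).symm
    have : r = 1 ∨ r = 30 := (h.fr hr c').imp_right fun a => a.resolve_right fun a => k r r1 c' a.1
    rcases g_D x hx (this.imp (fun a : r = 1 => a ▸ e2) fun a : r = 30 => a ▸ e2) with rfl | rfl | rfl <;> simp [← e1]
  have e1 := (Set.ncard_le_ncard this).trans ((Set.ncard_insert_le _ _).trans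
    (Nat.succ_le_succ (Set.ncard_insert_le _ _)))
  rw [Set.ncard_singleton] at e1
  rw [BS.ncard_conj, relIndex_top_right] at e1
  refine H8.isSolvable_of_card_dvd_prime_pow_mul Nat.prime_two Nat.prime_three 9 2 _ G rfl ?_
  rw [← (Cen1 z).index_mul_card, h.cardH]
  have := (Cen1 z).index_ne_zero_of_finite
  generalize (Cen1 z).index = n at *
  interval_cases n <;> simp_all

theorem o2_bot (hG : ¬ Group.IsSolvable G) {X : Subgroup G} [hX : X.Normal] (h2 : IsPGroup 2 X) :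
    X = ⊥ := by
  by_contra hn
  obtain ⟨y, hy, y1, -, e⟩ := H7.exists_fixed_order_p h2 (h.two_E.to_sup_of_normal_right h2)
    (le_top.trans (normalizer_eq_top _).ge) hn
  obtain rfl := (h.cenE fun x hx => c1.2 (e x (mem_sup_right (mem_sup_left hx)))).resolve_left y1
  exact hG (h.solv' fun g => c1.2 (e _ (mem_sup_left (hX.conj_mem _ hy g))))

/-- the Sylow 2-subgroup of the subgroup of index four -/
def j : P3.T3 →* G := MonoidHom.mk' (fun x => w (tj x)) fun x y => by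
  rw [← g_j, h.mul _ (tj_lt _) _ (tj_lt _)]

theorem j_inj : Function.Injective h.j := (injective_iff_map_eq_one _).2 fun x e =>
  (g_j' x).1 (by_contra fun n => h.ne1 (tj_lt x) n e)

theorem main (hG : ¬ Group.IsSolvable G) : ∃ N : Subgroup G, N.Normal ∧ IsSylowOf 2 h.j.range N ∧
    (∀ X ≤ N, N ≤ Nor X → IsPGroup 2 X → X = ⊥) ∧ Cen N = ⊥ ∧ 4 * Nat.card N ≤ Nat.card G ∧
      ∃ d ∈ N, orderOf d = 3 ∧ d ∈ Cen1 (h.j ⟨0, 0, 1⟩) := by
  obtain ⟨N, hN, e, -⟩ := h.exists_G0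
  have KN : h.K ≤ N := e ▸ inf_le_left
  have jK : h.j.range ≤ h.K := by
    rintro _ ⟨x, rfl⟩; exact (h.mem_K (tj_lt x)).2 (g_j' x).2
  have cj : Nat.card h.j.range = 64 := by
    rw [← Nat.card_congr (MonoidHom.ofInjective h.j_inj).toEquiv, Nat.card_eq_fintype_card]
    exact P3.T3.card_T3
  have i1 : h.K.relIndex N ∣ (Cen1 z).index := by
    rw [← e, inf_comm, inf_relIndex_right]; exact H9.relIndex_dvd_index_of_normal' _ _
  have i2 := card_mul_relIndex jK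
  rw [cj, h.card_K] at i2
  have z1 : h.j ⟨0, 0, 1⟩ = z := h.z1
  refine ⟨N, hN, ⟨jK.trans KN, IsPGroup.of_card (n := 6) cj, ?_⟩, fun X h1 h2 h3 => ?_, ?_, ?_,
    w 128, KN ((h.mem_K (by norm_num)).2 (by decide)), orderOf_eq_prime ?_
      (h.ne1 (by norm_num) (by norm_num)), by rw [z1]; exact h.wm (by norm_num)⟩
  · rw [← relIndex_mul_relIndex _ _ N jK KN, show h.j.range.relIndex h.K = 3 by omega]
    exact (Odd.mul (by decide) (h.odd_top.of_dvd_nat i1)).not_two_dvd_nat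
  · have : (pCoreIn 2 N).Normal := normalizer_eq_top_iff.1
      (top_le_iff.1 ((normalizer_eq_top N).ge.trans (nOp 2 N)))
    exact eq_bot_iff.2 ((le_pCoreIn h1 h2 h3).trans (h.o2_bot hG (isPGroup_pCoreIn 2 N)).le)
  · refine h.o2_bot hG fun g => ⟨1, Subtype.ext ?_⟩
    have k : ∀ x < 768, x < 384 ∧ c0 x 30 → g.1 ∈ Cen1 (w x) := fun x hx a =>
      c1.2 (cen.1 g.2 _ (KN ((h.mem_K hx).2 a)))
    obtain ⟨x, hx, e⟩ := (h.mem g).1 (h.z1 ▸ k 1 (by norm_num) (by decide))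
    have := (h.sq hx).2 (g_Z x hx ((h.comm hx (by norm_num)).1 (e ▸ k _ (by norm_num) (by decide)))
      ((h.comm hx (by norm_num)).1 (e ▸ k _ (by norm_num) (by decide)))).1
    rw [e] at this
    simpa [pow_two] using this
  · have i3 := card_mul_relIndex h.K_le
    have i4 : N.relIndex (Cen1 z) ≤ N.index :=
      Nat.le_of_dvd (Nat.pos_of_ne_zero N.index_ne_zero_of_finite) (relIndex_dvd_index_of_normal _ _)
    rw [h.card_K, h.cardH, ← e, inf_relIndex_right] at i3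
    rw [← N.index_mul_card]
    exact Nat.mul_le_mul_right _ (by omega)
  · rw [pow_three, ← h.mul _ (by norm_num) _ (by norm_num), ← h.mul _ (by norm_num) _ (m_lt ..)]
    exact h.w0

end Cd

end AL
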