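import Cfsg.Agent.AL.B
import Cfsg.Agent.P3.Iso
import Cfsg.Agent.H8.SLn

/-! The group `PGL₃(4)` and its elation subgroups. -/

set_option autoImplicit false
set_option linter.unusedVariables false

namespace AL

open Cfsg Subgroup FT GW H4 Matrix
open H5 (IsSylowOf)
open H2 (F4 vec34 lab34)
open P3 (T3 mT toSL)
open scoped Pointwise

abbrev V3 := Fin 3 → F4
abbrev GL3 := GL (Fin 3) F4
abbrev PG := GL3 ⧸ center GL3
abbrev pr : GL3 →* PG := QuotientGroup.mk' _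

variable {a b x y g : GL3} {u v w φ ψ η : V3} {c : F4}

theorem pr_eq : pr a = pr b ↔ ∃ c : F4, a.1 = c • b.1 := by
  rw [← mul_inv_eq_one, ← map_inv, ← map_mul, QuotientGroup.mk'_apply, QuotientGroup.eq_one_iff,
    GeneralLinearGroup.mem_center_iff_val_mem_range_scalar]
  refine exists_congr fun c => ?_
  rw [smul_eq_diagonal_mul, ← scalar_apply, eq_comm, Units.val_mul, Units.mul_inv_eq_iff_eq_mul]

theorem pr_inj (hx : x * x = 1) (hy : y * y = 1) (h : pr x = pr y) : x = y := by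
  obtain ⟨c, e⟩ := pr_eq.1 h
  have h1 := congrArg Units.val hx
  have h2 := congrArg Units.val hy
  rw [Units.val_mul, Units.val_one] at h1 h2
  rw [e, smul_mul_smul_comm, h2] at h1
  have h3 : c * c = 1 := by simpa using congrFun (congrFun h1 0) 0
  rw [(by decide +kernel : ∀ c : F4, c * c = 1 → c = 1) c h3, one_smul] at e
  exact Units.ext e

/-- `x` is the elation with centre `v` and axis `φ` -/
def T (v φ : V3) (x : GL3) : Prop := φ ⬝ᵥ v = 0 ∧ x.1 = 1 + vecMulVec v φ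

theorem t_mul (h : φ ⬝ᵥ w = 0) : (1 + vecMulVec v φ) * (1 + vecMulVec w ψ) =
    1 + (vecMulVec v φ + vecMulVec w ψ) := by
  rw [add_mul, mul_add, mul_add, vecMulVec_mul_vecMulVec, h]
  simp [add_assoc, add_comm]

theorem t_sq (h : φ ⬝ᵥ v = 0) : (1 + vecMulVec v φ) * (1 + vecMulVec v φ) = 1 := by
  rw [t_mul h, show vecMulVec v φ + vecMulVec v φ = 0 from ext fun i j => P3.aa _, add_zero]

theorem exT (h : φ ⬝ᵥ v = 0) : ∃ x, T v φ x := ⟨⟨_, _, t_sq h, t_sq h⟩, h, rfl⟩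

theorem T.sq (h : T v φ x) : x * x = 1 := Units.ext (by rw [Units.val_mul, h.2, t_sq h.1]; rfl)

theorem T.conj (h : T v φ x) (g : GL3) : T (g.1 *ᵥ v) (φ ᵥ* (g⁻¹).1) (g * x * g⁻¹) :=
  ⟨by rw [dotProduct_mulVec, vecMul_vecMul, Units.inv_mul, vecMul_one, h.1], by
    rw [Units.val_mul, Units.val_mul, h.2, mul_add, add_mul, mul_one, Units.mul_inv, mul_vecMulVec,
      vecMulVec_mul]⟩

theorem T.smul (h : T (c • v) φ x) : T v (c • φ) x :=
  ⟨by rw [smul_dotProduct, ← dotProduct_smul, h.1], by rw [h.2, smul_vecMulVec, vecMulVec_smul]⟩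

theorem T.smul' (h : T v (c • φ) x) : T (c • v) φ x :=
  ⟨by rw [dotProduct_smul, ← smul_dotProduct, h.1], by rw [h.2, smul_vecMulVec, vecMulVec_smul]⟩

theorem T.ne (h : T v φ x) (h1 : v ≠ 0) (h2 : φ ≠ 0) : pr x ≠ 1 := fun e => by
  have := congrArg Units.val (pr_inj h.sq (mul_one 1) e)
  rw [h.2, Units.val_one, add_eq_left, vecMulVec_eq_zero] at this
  exact this.elim h1 h2

/-- elations with centre `v` -/
def A (v : V3) : Subgroup PG := sbM (fun γ => ∃ x φ, T v φ x ∧ pr x = γ)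
  ⟨1, 0, ⟨by simp, by simp⟩, rfl⟩ (by
    rintro _ _ ⟨x, φ, h, rfl⟩ ⟨y, ψ, k, rfl⟩
    exact ⟨x * y, φ + ψ, ⟨by rw [add_dotProduct, h.1, k.1, add_zero], by
      rw [Units.val_mul, h.2, k.2, t_mul h.1, vecMulVec_add]⟩, rfl⟩)

/-- elations with axis `φ` -/
def B (φ : V3) : Subgroup PG := sbM (fun γ => ∃ x v, T v φ x ∧ pr x = γ)
  ⟨1, 0, ⟨by simp, by simp⟩, rfl⟩ (by
    rintro _ _ ⟨x, v, h, rfl⟩ ⟨y, w, k, rfl⟩
    exact ⟨x * y, v + w, ⟨by rw [dotProduct_add, h.1, k.1, add_zero], by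
      rw [Units.val_mul, h.2, k.2, t_mul k.1, add_vecMulVec]⟩, rfl⟩)

theorem A_sq {γ : PG} (h : γ ∈ A v) : γ * γ = 1 := by
  obtain ⟨x, φ, h, rfl⟩ := h; rw [← map_mul, h.sq, map_one]

theorem B_sq {γ : PG} (h : γ ∈ B v) : γ * γ = 1 := by
  obtain ⟨x, φ, h, rfl⟩ := h; rw [← map_mul, h.sq, map_one]

theorem conj_A (g : GL3) (v : V3) : conjS (pr g) (A v) = A (g.1 *ᵥ v) := by
  have k : ∀ g v, conjS (pr g) (A v) ≤ A (g.1 *ᵥ v) := by
    rintro g v _ ⟨_, ⟨x, φ, h, rfl⟩, rfl⟩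
    exact ⟨_, _, h.conj g, rfl⟩
  refine le_antisymm (k g v) ?_
  have := conjS_mono (pr g) (k g⁻¹ (g.1 *ᵥ v))
  rwa [conjS_conjS, ← map_mul, mul_inv_cancel, map_one, conjS_one, mulVec_mulVec, Units.inv_mul,
    one_mulVec] at this

theorem A_smul (hc : c ≠ 0) (v : V3) : A (c • v) = A v := by
  have k : ∀ (c : F4) v, A (c • v) ≤ A v := by
    rintro c v _ ⟨x, φ, h, rfl⟩
    exact ⟨_, _, h.smul, rfl⟩
  exact le_antisymm (k c v) (by simpa [hc] using k c⁻¹ (c • v))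

theorem key {γ δ : PG} (h1 : η ⬝ᵥ v = 0) (h2 : η ⬝ᵥ w = 0) (hγ : γ ∈ A v) (hδ : δ ∈ A w)
    (h3 : γ * δ ∈ A u) (h4 : γ * δ ≠ 1) : η ⬝ᵥ u = 0 := by
  obtain ⟨a, φ, ha, rfl⟩ := hγ
  obtain ⟨b, ψ, hb, rfl⟩ := hδ
  obtain ⟨x, χ, hx, e⟩ := h3
  obtain ⟨c, e'⟩ := pr_eq.1 (e.trans (map_mul ..).symm)
  have e1 := congrArg (η ᵥ* ·) e'
  simp only [hx.2, Units.val_mul, ha.2, hb.2, vecMul_smul, ← vecMul_vecMul, vecMul_add, vecMul_one,
    vecMul_vecMulVec, h1, h2, zero_smul, add_zero] at e1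
  have e2 := congrArg (· ⬝ᵥ u) e1
  simp only [add_dotProduct, smul_dotProduct, hx.1, mul_zero, add_zero, smul_eq_mul] at e2
  by_contra n
  rw [show c = 1 from mul_right_cancel₀ n (by rw [← e2, one_mul]), one_smul, add_eq_left,
    smul_eq_zero, or_iff_right n] at e1
  refine h4 (e ▸ ?_)
  rw [show x = 1 from Units.ext (by rw [hx.2, e1]; simp), map_one]

/-- cross product -/
def cr (a b : V3) : V3 := ![a 1 * b 2 - a 2 * b 1, a 2 * b 0 - a 0 * b 2, a 0 * b 1 - a 1 * b 0]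

theorem key' (h1 : cr v w ⬝ᵥ u = 0) (h2 : cr v w ≠ 0) (h3 : u ≠ 0) :
    ∃ γ ∈ A v, ∃ δ ∈ A w, γ * δ ∈ A u ∧ γ * δ ≠ 1 := by
  have h0 := h1
  simp only [cr, dotProduct, Fin.sum_univ_three, cons_val] at h0
  obtain ⟨a, ha⟩ := exT (v := v) (φ := cr u w) (by
    simp only [cr, dotProduct, Fin.sum_univ_three, cons_val]; linear_combination -h0)
  obtain ⟨b, hb⟩ := exT (v := w) (φ := cr v u) (by
    simp only [cr, dotProduct, Fin.sum_univ_three, cons_val]; linear_combination -h0)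
  have : T u (cr v w) (a * b) := ⟨h1, by
    rw [Units.val_mul, ha.2, hb.2, t_mul (by
      simp only [cr, dotProduct, Fin.sum_univ_three, cons_val]; ring), add_right_inj]
    ext i j
    fin_cases i <;> fin_cases j <;> simp [cr, vecMulVec_apply] <;>
      first | ring1 | linear_combination -h0⟩
  exact ⟨_, ⟨a, _, ha, rfl⟩, _, ⟨b, _, hb, rfl⟩, ⟨_, _, this, rfl⟩, this.ne h3 h2⟩

/-- the points -/
def pt (i : Fin 21) : V3 := vec34 (i + 2)
def lb (v : V3) : Fin 21 := Fin.ofNat 21 (lab34 v - 2)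
abbrev cl (i j k : Fin 21) : Prop := cr (pt i) (pt j) ⬝ᵥ pt k = 0
abbrev Ap (i : Fin 21) : Subgroup PG := A (pt i)

theorem pt_ne : ∀ i, pt i ≠ 0 := by decide +kernel
theorem pt_lb : ∀ v, v ≠ 0 → ∃ c : F4, c ≠ 0 ∧ pt (lb v) = c • v := H2.forall_vec (by decide +kernel)
theorem cr_ne : ∀ i j, i = j ∨ cr (pt i) (pt j) ≠ 0 := by decide +kernel
theorem pt_sep : ∀ i j, i = j ∨ ∃ k, pt k ⬝ᵥ pt i = 0 ∧ pt k ⬝ᵥ pt j ≠ 0 := by decide +kernel
theorem pt_perp : ∀ i, ∃ k, pt k ⬝ᵥ pt i = 0 := by decide +kernel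

theorem cr_dot (v w : V3) : cr v w ⬝ᵥ v = 0 ∧ cr v w ⬝ᵥ w = 0 := by
  simp only [cr, dotProduct, Fin.sum_univ_three, cons_val]; constructor <;> ring

theorem A_lb (hv : v ≠ 0) : Ap (lb v) = A v := by
  obtain ⟨c, hc, e⟩ := pt_lb v hv
  rw [Ap, e, A_smul hc]

theorem gl_ne (g : GL3) (hv : v ≠ 0) : g.1 *ᵥ v ≠ 0 := fun e => hv (by
  rw [← one_mulVec v, ← g.inv_mul, ← mulVec_mulVec, e, mulVec_zero])

theorem conj_Ap (g : GL3) (i : Fin 21) : conjS (pr g) (Ap i) = Ap (lb (g.1 *ᵥ pt i)) := by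
  rw [conj_A, A_lb (gl_ne g (pt_ne i))]

theorem ex_A (i : Fin 21) : ∃ γ ∈ Ap i, γ ≠ 1 := by
  obtain ⟨k, hk⟩ := pt_perp i
  obtain ⟨x, hx⟩ := exT hk
  exact ⟨_, ⟨x, _, hx, rfl⟩, hx.ne (pt_ne i) (pt_ne k)⟩

theorem Ap_inj {i j : Fin 21} (h : Ap i = Ap j) : i = j := by
  refine (pt_sep i j).resolve_right fun ⟨k, h1, h2⟩ => h2 ?_
  obtain ⟨γ, hγ, n⟩ := ex_A i
  exact key h1 h1 hγ (one_mem _) (by rwa [mul_one, ← show Ap i = A (pt j) from h]) (by rwa [mul_one])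

theorem prop {i j : Fin 21} (h : conjS (pr g) (Ap i) = Ap j) : ∃ c : F4, c ≠ 0 ∧ pt j = c • g.1 *ᵥ pt i := by
  rw [conj_Ap] at h
  exact Ap_inj h ▸ pt_lb _ (gl_ne g (pt_ne i))

theorem faith {γ : PG} (h : ∀ i, conjS γ (Ap i) = Ap i) : γ = 1 := by
  obtain ⟨g, rfl⟩ := QuotientGroup.mk'_surjective _ γ
  obtain ⟨a, a0, ha⟩ := prop (h 2)
  obtain ⟨b, b0, hb⟩ := prop (h 1)
  obtain ⟨c, c0, hc⟩ := prop (h 0)
  obtain ⟨d, d0, hd⟩ := prop (h 5)
  rw [show pt 2 = ![1, 0, 0] by decide +kernel] at ha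
  rw [show pt 1 = ![0, 1, 0] by decide +kernel] at hb
  rw [show pt 0 = ![0, 0, 1] by decide +kernel] at hc
  rw [show pt 5 = ![1, 1, 1] by decide +kernel] at hd
  simp only [funext_iff, Fin.forall_fin_succ, mulVec, dotProduct, Fin.sum_univ_three, cons_val,
    Pi.smul_apply, smul_eq_mul, mul_one, mul_zero, add_zero, zero_add, cons_val_succ,
    zero_eq_mul, a0, b0, c0, false_or, IsEmpty.forall_iff, and_true, Fin.succ_zero_eq_one,
    Fin.succ_one_eq_two] at ha hb hc hd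
  refine (pr_eq.2 ⟨d⁻¹, ?_⟩).trans (map_one _)
  obtain ⟨h1, h2, h3⟩ := hd
  rw [hb.1, hc.1] at h1
  rw [ha.2.1, hc.2.1] at h2
  rw [ha.2.2, hb.2.2] at h3
  ext i j
  fin_cases i <;> fin_cases j <;> simp [ha.2.1, ha.2.2, hb.1, hb.2.2, hc.1, hc.2.1]
  · exact eq_inv_of_mul_eq_one_right (by simpa using h1.symm)
  · exact eq_inv_of_mul_eq_one_right (by simpa using h2.symm)
  · exact eq_inv_of_mul_eq_one_right (by simpa using h3.symm)

/-- the unitriangular group -/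
def uT : T3 →* PG := pr.comp (SpecialLinearGroup.toGL.comp toSL)

def gT (t : T3) : GL3 := SpecialLinearGroup.toGL (mT t)

theorem gT_val (t : T3) : (gT t).1 = !![1, t.a, t.c; 0, 1, t.b; 0, 0, 1] := rfl

theorem uT_inj : Function.Injective uT := (injective_iff_map_eq_one _).2 fun t e => by
  obtain ⟨c, e⟩ := (pr_eq (a := gT t)).1 (e.trans (map_one pr).symm)
  have k := fun a b => congrFun (congrFun e a) b
  exact P3.T3.ext ((k 0 1).trans (mul_zero c)) ((k 1 2).trans (mul_zero c)) ((k 0 2).trans (mul_zero c))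

theorem card_PG : Nat.card PG = 60480 := by
  have e : Nat.card PG * _ = _ := (center GL3).index_mul_card
  have e1 : Nat.card GL3 = 181440 := (card_GL_field (𝔽 := F4) 3).trans (by
    rw [H2.F4.card_F4]; decide +kernel)
  have e2 : Nat.card (center GL3) = 3 := by
    rw [GeneralLinearGroup.center_eq_range_scalar, ← Nat.card_congr (MonoidHom.ofInjective
      (f := GeneralLinearGroup.scalar (Fin 3) (R := F4)) fun a b e => Units.ext (by
        have := congrArg (fun x : GL3 => x.1 0 0) e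
        simpa using this)).toEquiv, Nat.card_units,
      Nat.card_eq_fintype_card, H2.F4.card_F4]
  rw [e1, e2] at e
  omega

theorem card_uT (X : Subgroup T3) : Nat.card (X.map uT) = Nat.card X := card_map_of_injective uT_inj

theorem card_U : Nat.card uT.range = 64 := by
  rw [MonoidHom.range_eq_map, card_uT, card_top, Nat.card_eq_fintype_card, P3.T3.card_T3]

theorem syl_of {S : Subgroup PG} (h : Nat.card S = 64) : IsSylowOf 2 S ⊤ :=
  ⟨le_top, IsPGroup.of_card (n := 6) h, by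
    have := S.card_mul_index
    rw [h, card_PG] at this
    rw [relIndex_top_right]; omega⟩

theorem mem_A0 {γ : PG} : γ ∈ Ap 2 ↔ ∃ t : T3, t.b = 0 ∧ uT t = γ := by
  rw [Ap, show pt 2 = ![1, 0, 0] by decide +kernel]
  have k : ∀ a c, T ![1, 0, 0] ![0, a, c] (gT ⟨a, 0, c⟩) := fun a c =>
    ⟨by simp, by ext i j; fin_cases i <;> fin_cases j <;> simp [gT_val, vecMulVec_apply]⟩
  refine ⟨?_, ?_⟩
  · rintro ⟨x, φ, h, rfl⟩
    refine ⟨⟨φ 1, 0, φ 2⟩, rfl, congrArg pr (Units.ext ((k _ _).2.trans ?_))⟩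
    have : φ 0 = 0 := by simpa [dotProduct, Fin.sum_univ_three] using h.1
    rw [h.2, show ![0, φ 1, φ 2] = φ by ext i; fin_cases i <;> simp [this]]
  · rintro ⟨⟨a, b, c⟩, rfl, rfl⟩
    exact ⟨_, _, k a c, rfl⟩

theorem mem_B0 {γ : PG} : γ ∈ B ![0, 0, 1] ↔ ∃ t : T3, t.a = 0 ∧ uT t = γ := by
  have k : ∀ b c, T ![c, b, 0] ![0, 0, 1] (gT ⟨0, b, c⟩) := fun a c =>
    ⟨by simp, by ext i j; fin_cases i <;> fin_cases j <;> simp [gT_val, vecMulVec_apply]⟩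
  refine ⟨?_, ?_⟩
  · rintro ⟨x, φ, h, rfl⟩
    refine ⟨⟨0, φ 1, φ 0⟩, rfl, congrArg pr (Units.ext ((k _ _).2.trans ?_))⟩
    have : φ 2 = 0 := by simpa [dotProduct, Fin.sum_univ_three] using h.1
    rw [h.2, show ![φ 0, φ 1, 0] = φ by ext i; fin_cases i <;> simp [this]]
  · rintro ⟨⟨a, b, c⟩, rfl, rfl⟩
    exact ⟨_, _, k b c, rfl⟩

theorem A0_le : Ap 2 ≤ uT.range := fun _ h => let ⟨t, _, e⟩ := mem_A0.1 h; ⟨t, e⟩
theorem B0_le : B ![0, 0, 1] ≤ uT.range := fun _ h => let ⟨t, _, e⟩ := mem_B0.1 h; ⟨t, e⟩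

theorem card_A0 : Nat.card (Ap 2) = 16 :=
  (MT.card_img uT_inj _ fun _ => mem_A0).trans (by decide +kernel)
theorem card_B0 : Nat.card (B ![0, 0, 1]) = 16 :=
  (MT.card_img uT_inj _ fun _ => mem_B0).trans (by decide +kernel)

/-- same orbit -/
def R (M : Subgroup PG) (i j : Fin 21) : Prop := ∃ γ ∈ M, conjS γ (Ap i) = Ap j

section R

variable {M : Subgroup PG} {i j k : Fin 21}

theorem R.symm (h : R M i j) : R M j i := by
  obtain ⟨γ, a, e⟩ := h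
  exact ⟨γ⁻¹, inv_mem a, by rw [← e, conjS_conjS, inv_mul_cancel, conjS_one]⟩

theorem R.trans (h : R M i j) (h' : R M j k) : R M i k := by
  obtain ⟨γ, a, e⟩ := h
  obtain ⟨δ, b, e'⟩ := h'
  exact ⟨δ * γ, mul_mem b a, by rw [← conjS_conjS, e, e']⟩

theorem orbU (hU : uT.range ≤ M) (j : Fin 21) :
    j = 2 ∨ (pt j 2 = 0 ∧ R M 1 j) ∨ (pt j 2 ≠ 0 ∧ R M 0 j) := by
  have k : ∀ i, (∃ t : T3, lb ((mT t).1 *ᵥ pt i) = j) → R M i j := fun i ⟨t, e⟩ =>
    ⟨_, hU ⟨t, rfl⟩, e ▸ conj_Ap (gT t) i⟩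
  exact ((by decide +kernel : ∀ j, j = 2 ∨ (pt j 2 = 0 ∧ ∃ t : T3, lb ((mT t).1 *ᵥ pt 1) = j) ∨
    (pt j 2 ≠ 0 ∧ ∃ t : T3, lb ((mT t).1 *ᵥ pt 0) = j)) j).imp_right
      (Or.imp (And.imp_right (k 1)) (And.imp_right (k 0)))

theorem trans_of (hU : uT.range ≤ M) (h1 : R M 1 0) (h2 : ∃ j, j ≠ 2 ∧ R M 2 j) (j : Fin 21) :
    R M 2 j := by
  have k : ∀ j, j ≠ 2 → R M 1 j := fun j n =>
    ((orbU hU j).resolve_left n).elim (·.2) (h1.trans ·.2)
  obtain ⟨i, n, e⟩ := h2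
  by_cases n' : j = 2
  · exact ⟨1, one_mem _, by rw [conjS_one, n']⟩
  · exact (e.trans (k i n).symm).trans (k j n')

theorem trans_top (j : Fin 21) : R ⊤ 2 j := by
  let a : GL3 := SpecialLinearGroup.toGL (⟨!![0, 1, 0; 0, 0, 1; 1, 0, 0], by
    rw [det_fin_three]; decide +kernel⟩ : SpecialLinearGroup (Fin 3) F4)
  exact trans_of le_top (R.symm ⟨_, mem_top _, (conj_Ap a 0).trans (congrArg Ap (by decide +kernel))⟩)
    ⟨0, by decide, _, mem_top _, (conj_Ap a 2).trans (congrArg Ap (by decide +kernel))⟩ j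

theorem trans_M (hU : uT.range ≤ M) (hn : ∀ X ≤ M, M ≤ Nor X → IsPGroup 2 X → X = ⊥) (j : Fin 21) :
    R M 2 j := by
  refine trans_of hU (by_contra fun n => ?_) (by_contra fun n => ?_) j
  · have := hn _ (B0_le.trans hU) (fun γ hγ => mnor ?_) (IsPGroup.of_card (n := 4) card_B0)
    · have e := card_B0
      rw [this, card_bot] at e
      omega
    obtain ⟨g, rfl⟩ := QuotientGroup.mk'_surjective _ γ
    have k : ∀ i, i ≠ 2 → pt i 2 = 0 → (g.1 *ᵥ pt i) 2 = 0 := fun i i2 e => by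
      have r : R M 1 i := (((orbU hU i).resolve_left i2).resolve_right fun a => a.1 e).2
      obtain ⟨c, c0, e'⟩ := pt_lb _ (gl_ne g (pt_ne i))
      have : pt (lb (g.1 *ᵥ pt i)) 2 = 0 := by
        rcases orbU hU (lb (g.1 *ᵥ pt i)) with a | a | a
        · rw [a]; decide +kernel
        · exact a.1
        · exact absurd ((r.trans ⟨_, hγ, conj_Ap g i⟩).trans a.2.symm) n
      rw [e'] at this
      simpa [c0] using this
    have k1 := k 1 (by decide) (by decide +kernel)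
    have k2 := k 17 (by decide) (by decide +kernel)
    rw [show pt 1 = ![0, 1, 0] by decide +kernel] at k1
    rw [show pt 17 = ![1, 1, 0] by decide +kernel] at k2
    simp only [mulVec, dotProduct, Fin.sum_univ_three, cons_val, mul_one, mul_zero, add_zero,
      zero_add] at k1 k2
    rw [k1, add_zero] at k2
    have e : ![0, 0, 1] ᵥ* g.1 = g.1 2 2 • ![0, 0, 1] := by
      ext i; fin_cases i <;> simp [vecMul, dotProduct, Fin.sum_univ_three, k1, k2]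
    have e' := congrArg (· ᵥ* (g⁻¹).1) e
    simp only [vecMul_vecMul, Units.mul_inv, vecMul_one, smul_vecMul] at e'
    have c0 : g.1 2 2 ≠ 0 := fun c => by
      rw [c, zero_smul] at e'
      simpa using congrFun e' 2
    rintro _ ⟨x, v, h, rfl⟩
    have := h.conj g
    rw [show ![0, 0, 1] ᵥ* (g⁻¹).1 = (g.1 2 2)⁻¹ • ![0, 0, 1] by
      rw [eq_inv_smul_iff₀ c0, ← e']] at this
    exact ⟨_, _, this.smul', rfl⟩
  · have := hn _ (A0_le.trans hU) (fun γ hγ => ?_) (IsPGroup.of_card (n := 4) card_A0)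
    · have e := card_A0
      rw [this, card_bot] at e
      omega
    obtain ⟨g, rfl⟩ := QuotientGroup.mk'_surjective _ γ
    rw [mem_normalizer_iff_conjS, conj_Ap]
    exact congrArg Ap (by_contra fun e => n ⟨_, e, _, hγ, conj_Ap g 2⟩)

theorem det_ne {δ : PG} (h3 : orderOf δ = 3) {t : T3} (t1 : t ≠ 1) (t2 : ∀ s, s * t = t * s)
    (h : δ ∈ Cen1 (uT t)) : ∃ g : GL3, pr g = δ ∧ g.1.det ≠ 1 := by
  obtain ⟨g, rfl⟩ := QuotientGroup.mk'_surjective _ δ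
  refine ⟨g, rfl, fun e => ?_⟩
  obtain ⟨a, b, c⟩ := t
  obtain ⟨rfl, rfl⟩ : a = 0 ∧ b = 0 := P3.Z_iff _ (t2 _).symm (t2 _).symm
  have c0 : c ≠ 0 := fun e => t1 (by rw [e]; rfl)
  have s : gT ⟨0, 0, c⟩ * gT ⟨0, 0, c⟩ = 1 :=
    (map_mul (SpecialLinearGroup.toGL.comp toSL) _ _).symm.trans ((congrArg _ (P3.V_sq _ rfl)).trans
      (map_one _))
  have e1 := congrArg Units.val (mul_inv_eq_iff_eq_mul.1 (pr_inj (x := g * gT ⟨0, 0, c⟩ * g⁻¹)
    (by rw [conj_mul, s]; group) s (c1'.1 h)))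
  have k := fun a b => congrFun (congrFun e1 a) b
  have k1 := k 1 2
  have k2 := k 0 0
  have k3 := k 0 1
  have k4 := k 0 2
  simp [gT_val, mul_apply, Fin.sum_univ_three, c0, add_comm, mul_comm c] at k1 k2 k3 k4
  replace k4 : g.1 0 0 = g.1 2 2 := mul_right_cancel₀ c0 (by linear_combination k4)
  rw [det_fin_three, k1, k2, k3, ← k4] at e
  obtain ⟨e2, e3⟩ := (by decide +kernel : ∀ a b : F4, a * b * a = 1 → b = a ∧ a ≠ 0) _ _
    (by simpa using e)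
  have : pr g = pr (gT ⟨g.1 0 1 / g.1 0 0, g.1 1 2 / g.1 0 0, g.1 0 2 / g.1 0 0⟩) :=
    pr_eq.2 ⟨g.1 0 0, by
      ext i j
      fin_cases i <;> fin_cases j <;> simp [gT_val, k1, k2, k3, ← k4, e2, mul_div_cancel₀, e3]⟩
  have d := orderOf_dvd_natCard (⟨pr g, _, this.symm⟩ : uT.range)
  rw [card_U, ← orderOf_coe, h3] at d
  omega

theorem eq_top (hU : uT.range ≤ M) (hn : ∀ X ≤ M, M ≤ Nor X → IsPGroup 2 X → X = ⊥)
    {g : GL3} (h1 : pr g ∈ M) (h2 : g.1.det ≠ 1) : M = ⊤ := by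
  have hA : ∀ v, v ≠ 0 → A v ≤ M := fun v hv => by
    obtain ⟨γ, hγ, e⟩ := trans_M hU hn (lb v)
    rw [← A_lb hv, ← e, ← mem_normalizer_iff_conjS.1 (le_normalizer hγ)]
    exact conjS_mono γ (A0_le.trans hU)
  have hS : ∀ x : GL3, x.1.det = 1 → pr x ∈ M := fun x hx =>
    (show SpecialLinearGroup.toGL ⟨x.1, hx⟩ = x from Units.ext rfl) ▸
    H8.sl_induction (fun s => pr (SpecialLinearGroup.toGL s) ∈ M) (fun i j hij a =>
      hA (Pi.single i 1) (by simp) ⟨_, Pi.single j a, ⟨by simp [hij.symm], by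
        change 1 + single i j a = _
        ext k l
        simp only [Matrix.add_apply, vecMulVec_apply, single_apply, Pi.single_apply, @eq_comm _ k, @eq_comm _ l]
        by_cases i = k <;> by_cases j = l <;> simp [*]⟩, rfl⟩)
      (fun a b ha hb => by rw [map_mul, map_mul]; exact mul_mem ha hb) ⟨x.1, hx⟩
  refine eq_top_iff.2 fun γ _ => ?_
  obtain ⟨x, rfl⟩ := QuotientGroup.mk'_surjective _ γ
  rcases (by decide +kernel : ∀ a b : F4, a ≠ 0 → b ≠ 0 → a ≠ 1 → b = 1 ∨ a * b = 1 ∨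
    a * (a * b) = 1) _ _ g.det_ne_zero x.det_ne_zero h2 with e | e | e
  · exact hS x e
  · exact (mul_mem_cancel_left h1).1 (hS (g * x) (by rwa [Units.val_mul, det_mul]))
  · exact (mul_mem_cancel_left h1).1 ((mul_mem_cancel_left h1).1 (hS (g * (g * x)) (by
      rwa [Units.val_mul, det_mul, Units.val_mul, det_mul])))

end R

theorem chain {Γ α β : Type*} [Group Γ] [Finite Γ] [MulAction Γ α] (Y : Subgroup Γ) (a : α)
    (f : β → α) (s : Finset β) (h : ∀ θ ∈ Y, ∃ j ∈ s, θ • a = f j) :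
    Nat.card Y ≤ s.card * Nat.card ↥(Y ⊓ MulAction.stabilizer Γ a) := by
  rw [← H5.card_mul_relIndex (inf_le_left : Y ⊓ MulAction.stabilizer Γ a ≤ Y), mul_comm, inf_comm Y,
    inf_relIndex_right]
  refine Nat.mul_le_mul_right _ ?_
  rw [show (MulAction.stabilizer Γ a).relIndex Y = (MulAction.stabilizer Y a).index from rfl,
    MulAction.index_stabilizer, ← Set.ncard_coe_finset]
  refine (Set.ncard_le_ncard ?_).trans (Set.ncard_image_le (f := f))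
  rintro _ ⟨θ, rfl⟩
  obtain ⟨j, hj, e⟩ := h θ θ.2
  exact ⟨j, hj, e.symm⟩

theorem smul_conjS (θ : MulAut PG) (γ : PG) (X : Subgroup PG) :
    θ • conjS γ X = conjS (θ γ) (θ • X) := by
  ext x
  rw [mem_pointwise_smul_iff_inv_smul_mem, mem_conjS, mem_conjS, mem_pointwise_smul_iff_inv_smul_mem]
  simp

/-- collineations -/
def X0 : Subgroup (MulAut PG) := sbM (fun θ => ∀ i, ∃ j, θ • Ap i = Ap j)
  (fun i => ⟨i, one_smul _ _⟩) fun a b ha hb i => by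
    obtain ⟨j, e⟩ := hb i
    obtain ⟨k, e'⟩ := ha j
    exact ⟨k, by rw [mul_smul, e, e']⟩

theorem mem_X0 {θ : MulAut PG} {γ : PG} (h : conjS γ (θ • Ap 2) = Ap 2) : θ ∈ X0 := fun i => by
  obtain ⟨δ, -, e⟩ := trans_top i
  obtain ⟨g, e'⟩ := QuotientGroup.mk'_surjective _ (θ δ * γ⁻¹)
  exact ⟨_, by rw [← conj_Ap g 2, ← e, smul_conjS, e', ← conjS_conjS, ← h, conjS_conjS γ⁻¹,
    inv_mul_cancel, conjS_one, h]⟩

theorem cl_smul {θ : MulAut PG} {i j k i' j' k' : Fin 21} (n : i ≠ j) (h : cl i j k)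
    (h1 : θ • Ap i = Ap i') (h2 : θ • Ap j = Ap j') (h3 : θ • Ap k = Ap k') : cl i' j' k' := by
  obtain ⟨γ, a, δ, b, c, d⟩ := key' h ((cr_ne i j).resolve_left n) (pt_ne k)
  exact key (γ := θ γ) (δ := θ δ) (cr_dot _ _).1 (cr_dot _ _).2 (h1 ▸ smul_mem_pointwise_smul _ θ _ a :)
    (h2 ▸ smul_mem_pointwise_smul _ θ _ b :) (by
      rw [← map_mul]; exact (h3 ▸ smul_mem_pointwise_smul _ θ _ c :)) (by
      rwa [← map_mul, Ne, map_eq_one_iff _ θ.injective])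

theorem rigid {θ : MulAut PG} (h : θ ∈ X0) (h2 : θ • Ap 2 = Ap 2) (h1 : θ • Ap 1 = Ap 1)
    (h0 : θ • Ap 0 = Ap 0) (h5 : θ • Ap 5 = Ap 5) (h9 : θ • Ap 9 = Ap 9) : θ = 1 := by
  have k : ∀ x a b c d : Fin 21, a ≠ b ∧ c ≠ d ∧ cl a b x ∧ cl c d x ∧
      (∀ y, cl a b y → cl c d y → y = x) → θ • Ap a = Ap a → θ • Ap b = Ap b → θ • Ap c = Ap c →
      θ • Ap d = Ap d → θ • Ap x = Ap x := fun x a b c d ⟨e1, e2, e3, e4, e5⟩ ha hb hc hd => by
    obtain ⟨y, e⟩ := h x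
    rw [e, e5 y (cl_smul e1 e3 ha hb e) (cl_smul e2 e4 hc hd e)]
  have h3 := k 3 2 5 1 0 (by decide +kernel) h2 h5 h1 h0
  have h6 := k 6 2 5 0 9 (by decide +kernel) h2 h5 h0 h9
  have h7 := k 7 1 5 9 3 (by decide +kernel) h1 h5 h9 h3
  have h8 := k 8 1 6 0 7 (by decide +kernel) h1 h6 h0 h7
  have h10 := k 10 2 7 0 9 (by decide +kernel) h2 h7 h0 h9
  have h11 := k 11 2 0 1 6 (by decide +kernel) h2 h0 h1 h6
  have h12 := k 12 2 8 1 0 (by decide +kernel) h2 h8 h1 h0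
  have h13 := k 13 2 5 1 10 (by decide +kernel) h2 h5 h1 h10
  have h14 := k 14 2 0 1 5 (by decide +kernel) h2 h0 h1 h5
  have h15 := k 15 2 7 1 0 (by decide +kernel) h2 h7 h1 h0
  have h16 := k 16 2 8 1 5 (by decide +kernel) h2 h8 h1 h5
  have h17 := k 17 2 1 0 5 (by decide +kernel) h2 h1 h0 h5
  have h18 := k 18 2 1 0 7 (by decide +kernel) h2 h1 h0 h7
  have h19 := k 19 2 8 1 10 (by decide +kernel) h2 h8 h1 h10
  have h20 := k 20 2 0 1 10 (by decide +kernel) h2 h0 h1 h10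
  have h4 := k 4 2 7 1 6 (by decide +kernel) h2 h7 h1 h6
  have all : ∀ i, θ • Ap i = Ap i := fun i => by
    fin_cases i
    exacts [h0, h1, h2, h3, h4, h5, h6, h7, h8, h9, h10, h11, h12, h13, h14, h15, h16, h17, h18, h19, h20]
  ext γ
  obtain ⟨g, rfl⟩ := QuotientGroup.mk'_surjective _ γ
  refine (inv_mul_eq_one.1 (faith (γ := (pr g)⁻¹ * θ (pr g)) fun i => ?_)).symm
  rw [← conjS_conjS, ← all i, ← smul_conjS, conj_Ap, all, ← conj_Ap, conjS_conjS, inv_mul_cancel,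
    conjS_one, all]

theorem card_X0 : Nat.card X0 ≤ 120960 := by
  have inv : ∀ {θ : MulAut PG} {i j}, θ • Ap i = Ap j → θ⁻¹ • Ap j = Ap i := fun e => by
    rw [← e, inv_smul_smul]
  have ne : ∀ {θ : MulAut PG} {i j k}, θ • Ap i = Ap j → θ • Ap k = Ap k → i ≠ k → j ≠ k :=
    fun e e' n c => n (Ap_inj ((inv e).symm.trans (by rw [c]; exact inv e')))
  have nc : ∀ {θ : MulAut PG} {i j a b}, θ • Ap i = Ap j → θ • Ap a = Ap a → θ • Ap b = Ap b →
      a ≠ b ∧ ¬ cl a b i → ¬ cl a b j := fun e ha hb n c =>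
    n.2 (cl_smul n.1 c (inv ha) (inv hb) (inv e))
  have c0 := chain X0 (Ap 2) Ap Finset.univ fun θ h => by simpa using h 2
  have c1 := chain (X0 ⊓ MulAction.stabilizer _ (Ap 2)) (Ap 1) Ap (Finset.univ.filter (· ≠ 2))
    fun θ h => by
      obtain ⟨j, e⟩ := h.1 1
      exact ⟨j, by simpa using ne e h.2 (by decide), e⟩
  have c2 := chain (X0 ⊓ MulAction.stabilizer _ (Ap 2) ⊓ MulAction.stabilizer _ (Ap 1)) (Ap 0) Ap
    (Finset.univ.filter (¬ cl 2 1 ·)) fun θ h => by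
      obtain ⟨j, e⟩ := h.1.1 0
      exact ⟨j, Finset.mem_filter.2 ⟨Finset.mem_univ _, nc e h.1.2 h.2 (by decide +kernel)⟩, e⟩
  have c3 := chain (X0 ⊓ MulAction.stabilizer _ (Ap 2) ⊓ MulAction.stabilizer _ (Ap 1) ⊓
    MulAction.stabilizer _ (Ap 0)) (Ap 5) Ap
    (Finset.univ.filter fun j => ¬ cl 2 1 j ∧ ¬ cl 2 0 j ∧ ¬ cl 1 0 j) fun θ h => by
      obtain ⟨j, e⟩ := h.1.1.1 5
      exact ⟨j, Finset.mem_filter.2 ⟨Finset.mem_univ _, nc e h.1.1.2 h.1.2 (by decide +kernel),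
        nc e h.1.1.2 h.2 (by decide +kernel), nc e h.1.2 h.2 (by decide +kernel)⟩, e⟩
  have c4 := chain (X0 ⊓ MulAction.stabilizer _ (Ap 2) ⊓ MulAction.stabilizer _ (Ap 1) ⊓
    MulAction.stabilizer _ (Ap 0) ⊓ MulAction.stabilizer _ (Ap 5)) (Ap 9) Ap
    (Finset.univ.filter fun j => cl 2 1 j ∧ j ≠ 2 ∧ j ≠ 1 ∧ ¬ cl 0 5 j) fun θ h => by
      obtain ⟨j, e⟩ := h.1.1.1.1 9
      exact ⟨j, Finset.mem_filter.2 ⟨Finset.mem_univ _, cl_smul (by decide) (by decide +kernel)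
        h.1.1.1.2 h.1.1.2 e, ne e h.1.1.1.2 (by decide), ne e h.1.1.2 (by decide),
        nc e h.1.2 h.2 (by decide +kernel)⟩, e⟩
  have hb : X0 ⊓ MulAction.stabilizer _ (Ap 2) ⊓ MulAction.stabilizer _ (Ap 1) ⊓
      MulAction.stabilizer _ (Ap 0) ⊓ MulAction.stabilizer _ (Ap 5) ⊓ MulAction.stabilizer _ (Ap 9) = ⊥ :=
    eq_bot_iff.2 fun θ h => rigid h.1.1.1.1.1 h.1.1.1.1.2 h.1.1.1.2 h.1.1.2 h.1.2 h.2
  rw [hb, card_bot, show Finset.card _ = 2 by decide +kernel] at c4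
  rw [show Finset.card _ = 9 by decide +kernel] at c3
  rw [show Finset.card _ = 16 by decide +kernel] at c2
  rw [show Finset.card _ = 20 by decide +kernel] at c1
  rw [show Finset.card _ = 21 by decide +kernel] at c0
  omega

theorem e16 (θ : MulAut PG) : ∃ γ, conjS γ (θ • Ap 2) = Ap 2 ∨ conjS γ (θ • Ap 2) = B ![0, 0, 1] := by
  have c : Nat.card (θ • Ap 2 : Subgroup PG) = 16 := (card_map_of_injective θ.injective).trans card_A0
  obtain ⟨γ, -, e⟩ := (syl_of card_U).exists_conj_le (IsPGroup.of_card (n := 4) c) le_top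
  have c' := (card_conjS γ _).trans c
  have sq : ∀ x ∈ conjS γ (θ • Ap 2), x * x = 1 := by
    rintro _ ⟨_, ⟨x, hx, rfl⟩, rfl⟩
    change γ * θ x * γ⁻¹ * (γ * θ x * γ⁻¹) = 1
    rw [conj_mul, ← map_mul θ, A_sq hx, map_one, mul_one, mul_inv_cancel]
  refine ⟨γ, or_iff_not_imp_left.2 fun n => eq_of_le_of_card_ge (fun x hx => ?_) (by
    rw [c', card_B0])⟩
  obtain ⟨y, hy, n'⟩ := SetLike.not_le_iff_exists.1 fun a => n (eq_of_le_of_card_ge a (by
    rw [c', card_A0]))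
  obtain ⟨s, rfl⟩ := e hx
  obtain ⟨t, rfl⟩ := e hy
  have q : ∀ r, uT r ∈ conjS γ (θ • Ap 2) → r * r = 1 := fun r hr =>
    uT_inj (by rw [map_mul, sq _ hr, map_one])
  exact mem_B0.2 ⟨s, (by decide +kernel : ∀ s t : T3, s * s = 1 → t * t = 1 → t.b ≠ 0 →
    s * t * (s * t) = 1 → s.a = 0) s t (q s hx) (q t hy) (fun b => n' (mem_A0.2 ⟨t, b, rfl⟩))
    (q _ (map_mul uT s t ▸ mul_mem hx hy)), rfl⟩

theorem card_aut : Nat.card (MulAut PG) ≤ 241920 := by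
  have : X0.index ≤ 2 := by
    by_cases h : X0 = ⊤
    · rw [h, index_top]; norm_num
    obtain ⟨θ, n⟩ : ∃ θ, θ ∉ X0 := by_contra fun c => h (eq_top_iff.2 fun θ _ =>
      by_contra fun n => c ⟨θ, n⟩)
    obtain ⟨γ, e⟩ := e16 θ
    have e1 := e.resolve_left fun e => n (mem_X0 e)
    refine (index_eq_two_iff'.2 ⟨θ⁻¹, fun b => ?_⟩).le
    by_cases hb : b ∈ X0
    · exact Or.inr ⟨hb, fun c => n (by simpa using mul_mem hb (inv_mem c))⟩
    obtain ⟨δ, e'⟩ := e16 b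
    have e2 := e'.resolve_left fun e => hb (mem_X0 e)
    refine Or.inl ⟨mem_X0 (γ := θ⁻¹ (γ⁻¹ * δ)) ?_, hb⟩
    rw [mul_smul, ← smul_conjS, ← conjS_conjS, e2, ← e1, conjS_conjS, inv_mul_cancel, conjS_one,
      inv_smul_smul]
  have := card_X0
  rw [← X0.index_mul_card]
  exact (Nat.mul_le_mul ‹_› this).trans (by norm_num)

end AL
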