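import Cfsg.Agent.AL.C
import Cfsg.Agent.AL.D
import Cfsg.Agent.P3.C3
import Cfsg.Agent.H4.KM3

/-! Assembly. -/

set_option autoImplicit false
set_option linter.unusedVariables false

namespace AL

open Cfsg Subgroup FT GW H4
open H5 (IsSylowOf)
open P3 (T3)

variable {G : Type*} [Group G] [Finite G]

theorem pg_of {j : T3 →* G} (h : A8.SJ j) (hO : oddCore G = ⊥)
    (h2 : ∀ X : Subgroup G, X.Normal → IsPGroup 2 X → X = ⊥) {d : G} (d3 : orderOf d = 3)
    (hd : d ∈ Cen1 (j ⟨0, 0, 1⟩)) : Nonempty (G ≃* PG) := by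
  obtain ⟨f0, hf0⟩ : ∃ f : G →* PG, Function.Injective f := P3.emb_all h hO
  have c : ∀ f : G →* PG, Function.Injective f → Nat.card (f.comp j).range = 64 := fun f hf => by
    rw [← Nat.card_congr (MonoidHom.ofInjective (f := f.comp j) (hf.comp h.inj)).toEquiv,
      Nat.card_eq_fintype_card, P3.T3.card_T3]
  obtain ⟨γ, -, e⟩ := (syl_of card_U).exists_conj_le (syl_of (c f0 hf0)).isPGroup le_top
  let f := (MulAut.conj γ).toMonoidHom.comp f0
  have hf : Function.Injective f := (MulAut.conj γ).injective.comp hf0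
  have e1 : (f.comp j).range = uT.range := eq_of_le_of_card_ge (by
    rintro _ ⟨t, rfl⟩; exact e (conj_mem_conjS ⟨t, rfl⟩)) (by rw [c f hf, card_U])
  obtain ⟨t, ht⟩ : f (j ⟨0, 0, 1⟩) ∈ uT.range := e1 ▸ ⟨_, rfl⟩
  obtain ⟨g, e2, hg⟩ := det_ne (δ := f d) (t := t) ((orderOf_injective f hf d).trans d3)
    (fun a => h.ne1 (x := ⟨0, 0, 1⟩) (by decide +kernel) (hf (by rw [← ht, a, map_one, map_one])))
    (fun s => uT_inj (by
      obtain ⟨s', hs⟩ : uT s ∈ (f.comp j).range := e1 ▸ ⟨_, rfl⟩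
      rw [map_mul, map_mul, ht, ← hs, MonoidHom.comp_apply, ← map_mul, ← map_mul, ← map_mul, ← map_mul,
        (by decide +kernel : ∀ s : T3, s * ⟨0, 0, 1⟩ = ⟨0, 0, 1⟩ * s)]))
    (by rw [ht, c1, ← map_mul, c1.1 hd, map_mul])
  refine ⟨.ofBijective f ⟨hf, MonoidHom.range_eq_top.1 (eq_top (e1 ▸ fun _ ⟨t, e⟩ => ⟨_, e⟩)
    (fun X a b c => ?_) (e2 ▸ ⟨d, rfl⟩) hg)⟩⟩
  rw [← map_comap_eq_self a, h2 _ ⟨fun x hx y => ?_⟩ (c.comap_of_injective f hf), Subgroup.map_bot]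
  rw [mem_comap, map_mul, map_mul, map_inv]
  exact (mem_normalizer_iff.1 (b ⟨y, rfl⟩) _).1 hx

theorem aut_of {N : Subgroup G} [N.Normal] (h1 : Cen N = ⊥) (h2 : 4 * Nat.card N ≤ Nat.card G)
    (e : N ≃* PG) : Nonempty (G ≃* MulAut PG) := by
  let φ := (MulAut.congr e).toMonoidHom.comp (MulAut.conjNormal (H := N))
  have hi : Function.Injective φ := (MulAut.congr e).injective.comp ((injective_iff_map_eq_one _).2
    fun g a => mem_bot.1 (h1 ▸ cen.2 fun y hy => mul_inv_eq_iff_eq_mul.1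
      (congrArg Subtype.val (DFunLike.congr_fun a (⟨y, hy⟩ : N)) :)))
  rw [Nat.card_congr e.toEquiv, card_PG] at h2
  exact ⟨.ofBijective φ ((Nat.bijective_iff_injective_and_card _).2 ⟨hi,
    le_antisymm (Nat.card_le_card_of_injective _ hi) (card_aut.trans h2)⟩)⟩

theorem St.main {Q : Subgroup G} {z : G} (h : St Q z) (hG : ¬ Group.IsSolvable G) :
    Nonempty (G ≃* MulAut PG) := by
  have hO : ∀ x ∈ oddCore G, z * x * z⁻¹ = x⁻¹ := fun x hx =>
    h.odd (odd_iff_cop.2 (coprime_card_pPrimeCore 2 G)) hx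
  obtain ⟨al, be, w, c⟩ := h.cd
  have hi : ¬ IsIsolated z := fun a => hG (c.solv hO a)
  obtain ⟨rfl, rfl⟩ := c.main_case hi
  obtain ⟨N, hN, h1, h2, h3, h4, d, hd, d3, h5⟩ := c.main hG
  let j : T3 →* N := c.j.codRestrict N fun t => h1.le ⟨t, rfl⟩
  have e : j.range = c.j.range.subgroupOf N := by
    ext x; exact ⟨fun ⟨t, e⟩ => ⟨t, congrArg Subtype.val e⟩, fun ⟨t, e⟩ => ⟨t, Subtype.ext e⟩⟩
  obtain ⟨e⟩ := pg_of (j := j) ⟨fun a b e => c.j_inj (congrArg Subtype.val e), e ▸ ⟨le_top,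
    h1.isPGroup.comap_subtype, by rw [relIndex_top_right]; exact h1.3⟩⟩
    ((map_eq_bot_iff_of_injective _ N.subtype_injective).1 (eq_bot_iff.2 (c.core hO hi ▸
      le_pPrimeCore inferInstance (by
        rw [card_map_of_injective N.subtype_injective]; exact coprime_card_pPrimeCore 2 N))))
    (fun X a b => (map_eq_bot_iff_of_injective _ N.subtype_injective).1 (h2 _ (map_subtype_le _)
      (le_normalizer_map_subtype X) (b.map _))) (d := ⟨d, hd⟩) ((orderOf_coe _).symm.trans d3)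
    (c1.2 (Subtype.ext (c1.1 h5)))
  exact aut_of h3 h4 e

theorem st_of {z : G} (hz : orderOf z = 2) (E : Subgroup (Cen1 z)) [hEn : E.Normal]
    (hE : IsExtraspecial 2 E) (h32 : Nat.card E = 32)
    (h8 : ∀ A : Subgroup E, IsElementaryAbelian 2 A → Nat.card A ≠ 8) (hC : Cen E ≤ E)
    (e : Cen1 z ⧸ E ≃* Equiv.Perm (Fin 4)) : St (E.map (Cen1 z).subtype) z := by
  let z' : Cen1 z := ⟨z, c1.2 rfl⟩
  have zc : ∀ q : Cen1 z, q * z' = z' * q := fun q => Subtype.ext (c1.1 q.2)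
  have zE : z' ∈ E := hC (cen.2 fun q _ => (zc q).symm)
  refine ⟨(H7.es_of_isExtraspecial hE (fun a => ine hz (congrArg Subtype.val a)) zE
    fun q _ => zc q).map (subtype_injective _), (card_map_of_injective (subtype_injective _)).trans h32,
    ?_, le_normalizer_map_subtype E, fun h a b => ⟨⟨h, a⟩, hC (cen.2 fun q hq =>
      Subtype.ext (b _ ⟨q, hq, rfl⟩).symm), rfl⟩, e.toMonoidHom.comp (QuotientGroup.mk' E),
    e.surjective.comp (QuotientGroup.mk'_surjective E), fun h => ?_⟩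
  · rintro _ _ ⟨⟨x, hx, rfl⟩, x1, x2, x3⟩ ⟨⟨y, hy, rfl⟩, y1, y2, y3⟩ xy
    by_contra n
    have o : orderOf (⟨z', zE⟩ : E) = 2 := by rw [← orderOf_coe, ← orderOf_coe]; exact hz
    have k : ∀ u : E, u ∈ zpowers (⟨z', zE⟩ : E) → (u : G) = 1 ∨ (u : G) = z := fun u a =>
      ((mem_zpowers_invol (ii o)).1 a).imp (fun a => by rw [a]; rfl) fun a => by rw [a]
    obtain ⟨T, -, a, b, -⟩ := exists_eight (F := ⊤) (x := ⟨x, hx⟩) (y := ⟨y, hy⟩) o
      (fun q _ => c1.2 (Subtype.ext (zc q))) (mem_top _) (mem_top _) (mem_top _)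
      (Subtype.ext (Subtype.ext x1)) (Subtype.ext (Subtype.ext y1)) (Subtype.ext (Subtype.ext xy))
      (fun a => (k _ a).elim x2 x3) (fun a => (k _ a).elim y2 y3) fun a => n ((k _ a).imp
        (fun a => mul_left_cancel (a.trans x1.symm)) fun a => mul_left_cancel (a := (x : G)) (a.trans (by
          rw [← mul_assoc, c1.1 x.2, mul_assoc]; exact (mul_one z).symm.trans (congrArg _ x1.symm))))
    exact h8 T a b
  · rw [MonoidHom.comp_apply, MulEquiv.coe_toMonoidHom, map_eq_one_iff _ e.injective,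
      QuotientGroup.mk'_apply, QuotientGroup.eq_one_iff]
    exact (mem_map_iff_mem (subtype_injective _)).symm

end AL
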